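import Mathlib

/-!
Groups with an abelian subgroup of index two inverted, up to a central subgroup of exponent two,
by the elements outside it.
-/

set_option autoImplicit false

namespace Cfsg.Agent.Linear.Mitchell

/-- `T` is abelian of index two, contains the central elementary group `S`, and outside elements
invert it and square to one modulo `S`. -/
structure TorusPair {D : Type*} [Group D] (T S : Subgroup D) : Prop where
  idx : T.index = 2
  comm : ∀ a ∈ T, ∀ b ∈ T, a * b = b * a
  le : S ≤ T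
  central : ∀ s ∈ S, ∀ g : D, s * g = g * s
  sq : ∀ s ∈ S, s * s = 1
  invert : ∀ w, w ∉ T → ∀ x ∈ T, w * x * w⁻¹ * x ∈ S
  outside_sq : ∀ w, w ∉ T → w * w ∈ S

namespace TorusPair

variable {D : Type*} [Group D] {T S : Subgroup D} (h : TorusPair T S) {w : D} (hw : w ∉ T)
include h

theorem conj_mem (g : D) {x : D} (hx : x ∈ T) : g * x * g⁻¹ ∈ T :=
  (Subgroup.normal_of_index_eq_two h.idx).conj_mem x hx g

include hw

theorem inv_mul_mem {x : D} (hx : x ∉ T) : w⁻¹ * x ∈ T :=
  (Subgroup.mul_mem_iff_of_index_two h.idx).mpr (by simp [hw, hx])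

theorem chi_mul {x y : D} (hx : x ∈ T) (hy : y ∈ T) :
    w * (x * y) * w⁻¹ * (x * y) = (w * x * w⁻¹ * x) * (w * y * w⁻¹ * y) := by
  calc w * (x * y) * w⁻¹ * (x * y) = (w * x * w⁻¹) * ((w * y * w⁻¹) * x) * y := by group
    _ = (w * x * w⁻¹) * (x * (w * y * w⁻¹)) * y := by rw [h.comm _ (h.conj_mem w hy) x hx]
    _ = _ := by group

theorem sq_eq {z : D} (hz : z ∈ T) : (w * z) * (w * z) = (w * z * w⁻¹ * z) * (w * w) := by
  have hs := h.central _ (h.outside_sq w hw)
  calc (w * z) * (w * z) = (w * z * w⁻¹) * ((w * w) * z) := by group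
    _ = (w * z * w⁻¹) * (z * (w * w)) := by rw [hs z]
    _ = _ := by group

theorem chi_conj {z : D} (hz : z ∈ T) :
    w * (w * z * w⁻¹) * w⁻¹ * (w * z * w⁻¹) = w * z * w⁻¹ * z := by
  have hs := h.central _ (h.invert w hw z hz)
  calc w * (w * z * w⁻¹) * w⁻¹ * (w * z * w⁻¹) = w * ((w * z * w⁻¹) * z) * w⁻¹ := by group
    _ = (w * z * w⁻¹ * z) * w * w⁻¹ := by rw [hs w]
    _ = _ := by group

theorem chi_conj' {z : D} (hz : z ∈ T) :
    w * (w⁻¹ * z * w) * w⁻¹ * (w⁻¹ * z * w) = w * z * w⁻¹ * z := by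
  have hz' : w⁻¹ * z * w ∈ T := by simpa using h.conj_mem w⁻¹ hz
  rw [← h.chi_conj hw hz']
  congr 1 <;> group

open Classical in
/-- The sign homomorphism `x ↦ (wxw⁻¹)x`, extended by `wz ↦ (wzw⁻¹)z`. -/
theorem exists_eps : ∃ ε : D →* D, (∀ x, ε x ∈ S) ∧ (∀ x ∈ T, ε x = w * x * w⁻¹ * x) ∧
    ∀ z ∈ T, (w * z) * (w * z) = ε (w * z) * (w * w) := by
  let π : D → D := fun x => if x ∈ T then x else w⁻¹ * x
  have hπ : ∀ x, π x ∈ T := fun x => by
    by_cases hx : x ∈ T
    · simp [π, hx]
    · simp only [π, if_neg hx]; exact h.inv_mul_mem hw hx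
  let ε : D → D := fun x => w * π x * w⁻¹ * π x
  have hmul : ∀ x y, ε (x * y) = ε x * ε y := by
    intro x y
    show w * π (x * y) * w⁻¹ * π (x * y) = _
    by_cases hx : x ∈ T
    · by_cases hy : y ∈ T
      · have : π (x * y) = π x * π y := by simp [π, hx, hy, T.mul_mem hx hy]
        rw [this]; exact h.chi_mul hw (hπ x) (hπ y)
      · have hxy : x * y ∉ T := fun e => hy ((T.mul_mem_cancel_left hx).mp e)
        have hx' : w⁻¹ * x * w ∈ T := by simpa using h.conj_mem w⁻¹ hx
        have : π (x * y) = (w⁻¹ * x * w) * π y := by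
          simp only [π, if_neg hy, if_neg hxy]; group
        rw [this, h.chi_mul hw hx' (hπ y), h.chi_conj' hw hx]
        simp [ε, π, hx]
    · by_cases hy : y ∈ T
      · have hxy : x * y ∉ T := fun e => hx ((T.mul_mem_cancel_right hy).mp e)
        have : π (x * y) = π x * π y := by simp only [π, if_neg hx, if_pos hy, if_neg hxy]; group
        rw [this]; exact h.chi_mul hw (hπ x) (hπ y)
      · have hxy : x * y ∈ T := (Subgroup.mul_mem_iff_of_index_two h.idx).mpr (by simp [hx, hy])
        have hw2 := h.outside_sq w hw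
        have hc := h.conj_mem w (hπ x)
        have : π (x * y) = (w * π x * w⁻¹) * ((w * w) * π y) := by
          simp only [π, if_neg hx, if_neg hy, if_pos hxy]; group
        rw [this, h.chi_mul hw hc (T.mul_mem (h.le hw2) (hπ y)), h.chi_mul hw (h.le hw2) (hπ y),
          h.chi_conj hw (hπ x)]
        have e : w * (w * w) * w⁻¹ * (w * w) = 1 := by
          rw [show w * (w * w) * w⁻¹ = w * w by group]; exact h.sq _ hw2
        rw [e, one_mul]
  refine ⟨MonoidHom.mk' ε hmul, fun x => h.invert w hw _ (hπ x), fun x hx => by simp [ε, π, hx],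
    fun z hz => ?_⟩
  have hwz : w * z ∉ T := fun e => hw ((T.mul_mem_cancel_right hz).mp e)
  rw [h.sq_eq hw hz]
  simp only [MonoidHom.mk'_apply, ε, π, if_neg hwz, inv_mul_cancel_left]

end TorusPair

end Cfsg.Agent.Linear.Mitchell
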