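import Cfsg.Agent.Linear.Mitchell.Cases.OddPart
import Cfsg.Agent.Linear.Dickson.Identify
import Cfsg.Agent.S0107

/-!
A torus containing a four-group: the centraliser has order 8 or 24.
-/

set_option autoImplicit false

namespace Cfsg.Agent.Linear.Mitchell

open scoped MatrixGroups Matrix
open Cfsg.Geo Matrix Cfsg.Agent.Linear

variable {F : Type*} [Field F] [Finite F] {P : Subgroup (GL (Fin 3) F)}

local notation "M2" => Matrix (Fin 2) (Fin 2) F
local notation "M3" => Matrix (Fin 3) (Fin 3) F

namespace InvSetting.IsTorus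

variable {p : ℕ} {hI : InvSetting p P} {T : Subgroup hI.plane}

/-- A second involution in the torus. -/
structure Second (hT : hI.IsTorus T) (t' : hI.plane) : Prop where
  mem : t' ∈ T
  sq : t' * t' = 1
  ne_one : t' ≠ 1
  ne_nn : t' ≠ hI.nn

variable {hT : hI.IsTorus T} {t' : hI.plane} (h2 : hT.Second t')
include h2

theorem Second.not_scalar : ¬ IsScalarTwo ((t' : GL (Fin 2) F) : M2) := fun h => by
  rcases (hI.isScalarTwo_plane t'.2).mp h with e | e
  · exact h2.ne_one (Subtype.ext e)
  · exact h2.ne_nn (Subtype.ext e)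

theorem Second.matrix_sq : ((t' : GL (Fin 2) F) : M2) * (t' : GL (Fin 2) F) = 1 := by
  rw [← Units.val_mul, ← Subgroup.coe_mul, h2.sq, Subgroup.coe_one, Units.val_one]

theorem Second.trace_eq : ((t' : GL (Fin 2) F) : M2).trace = 0 :=
  trace_eq_zero_of_sq_scalar h2.not_scalar (c := 1) (by rw [one_smul]; exact h2.matrix_sq)

theorem Second.det_eq : ((t' : GL (Fin 2) F) : M2).det = -1 := by
  have h00 := congrFun (congrFun h2.matrix_sq 0) 0
  have ht := h2.trace_eq
  simp [Matrix.mul_apply, Fin.sum_univ_two] at h00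
  rw [Matrix.trace_fin_two] at ht
  rw [Matrix.det_fin_two]
  linear_combination (((t' : GL (Fin 2) F) : M2) 0 0) * ht - h00

theorem Second.coords {x : hI.plane} (hx : x ∈ T) : ∃ a b : F,
    ((x : GL (Fin 2) F) : M2) = a • (1 : M2) + b • ((t' : GL (Fin 2) F) : M2) :=
  (mem_centralizer_GL_two h2.not_scalar).mp
    (Subgroup.mem_centralizer_singleton_iff.mpr (congrArg Subtype.val (TorusPair.comm hT x hx t' h2.mem)))

theorem Second.det_coords {x : hI.plane} {a b : F}
    (he : ((x : GL (Fin 2) F) : M2) = a • (1 : M2) + b • ((t' : GL (Fin 2) F) : M2)) :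
    ((x : GL (Fin 2) F) : M2).det = (a + b) * (a - b) := by
  have hd := h2.det_eq
  have ht := h2.trace_eq
  rw [Matrix.det_fin_two] at hd
  rw [Matrix.trace_fin_two] at ht
  rw [he, Matrix.det_fin_two]
  simp
  linear_combination a * b * ht + b * b * hd

theorem Second.anti {w : hI.plane} (hw : w ∉ T) : w * t' * w⁻¹ = hI.nn * t' := by
  rcases hI.mem_signs.mp (TorusPair.invert hT w hw t' h2.mem) with h | h
  · exfalso
    have hcomm : w * t' * w⁻¹ = t' := by
      rw [eq_inv_of_mul_eq_one_left h]
      exact inv_eq_of_mul_eq_one_right h2.sq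
    obtain ⟨a, b, hab⟩ := (mem_centralizer_GL_two h2.not_scalar).mp
      (Subgroup.mem_centralizer_singleton_iff.mpr (congrArg Subtype.val (mul_inv_eq_iff_eq_mul.mp hcomm)))
    have hws : ¬ IsScalarTwo ((w : GL (Fin 2) F) : M2) := fun e => by
      rcases (hI.isScalarTwo_plane w.2).mp e with e | e
      · exact hw (by rw [show w = 1 from Subtype.ext e]; exact T.one_mem)
      · exact hw (by rw [show w = hI.nn from Subtype.ext e]; exact hT.nn_mem)
    obtain ⟨c, hc⟩ : ∃ c : F, ((w : GL (Fin 2) F) : M2) * (w : GL (Fin 2) F) = c • 1 := by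
      rw [← Units.val_mul, ← Subgroup.coe_mul]
      rcases hT.sq_cases hw with e | e <;> rw [e]
      · exact ⟨1, by simp⟩
      · exact ⟨-1, by simp [InvSetting.nn_val]⟩
    have ht := trace_eq_zero_of_sq_scalar hws hc
    rw [hab, Matrix.trace_add, Matrix.trace_smul, Matrix.trace_smul, h2.trace_eq, smul_zero, add_zero,
      smul_eq_mul, Matrix.trace_one, Fintype.card_fin, Nat.cast_ofNat] at ht
    have ha : a = 0 := (mul_eq_zero.mp ht).resolve_right hI.two
    rw [ha, zero_smul, zero_add] at hab
    have hsc : IsScalarTwo (((w * t' : hI.plane) : GL (Fin 2) F) : M2) :=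
      isScalarTwo_iff.mpr ⟨b, by simp [hab, h2.matrix_sq]⟩
    have hmem : w * t' ∈ T := by
      rcases (hI.isScalarTwo_plane (w * t').2).mp hsc with e | e
      · rw [show w * t' = 1 from Subtype.ext e]; exact T.one_mem
      · rw [show w * t' = hI.nn from Subtype.ext e]; exact hT.nn_mem
    exact hw ((T.mul_mem_cancel_right h2.mem).mp hmem)
  · rw [eq_mul_inv_of_mul_eq h, inv_eq_of_mul_eq_one_right h2.sq]

theorem Second.involutions {x : hI.plane} (hx : x ∈ T) (hsq : x * x = 1) :
    x = 1 ∨ x = hI.nn ∨ x = t' ∨ x = hI.nn * t' := by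
  obtain ⟨a, b, he⟩ := h2.coords hx
  have hm : (a * a + b * b - 1) • (1 : M2) + (2 * a * b) • ((t' : GL (Fin 2) F) : M2) = 0 := by
    have h1 : ((x : GL (Fin 2) F) : M2) * (x : GL (Fin 2) F) = 1 := by
      rw [← Units.val_mul, ← Subgroup.coe_mul, hsq, Subgroup.coe_one, Units.val_one]
    rw [he] at h1
    simp only [add_mul, mul_add, Matrix.smul_mul, Matrix.mul_smul, one_mul, mul_one, smul_smul, smul_add,
      h2.matrix_sq] at h1
    linear_combination (norm := module) h1
  have hab : a * a + b * b = 1 ∧ a * b = 0 := by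
    by_cases hc : 2 * a * b = 0
    · rw [hc, zero_smul, add_zero, smul_eq_zero, or_iff_left one_ne_zero, sub_eq_zero] at hm
      exact ⟨hm, (mul_eq_zero.mp (show (2 : F) * (a * b) = 0 by linear_combination hc)).resolve_left hI.two⟩
    · exfalso
      refine h2.not_scalar (isScalarTwo_iff.mpr ⟨-(a * a + b * b - 1) / (2 * a * b), ?_⟩)
      have := congrArg (fun X : M2 => (2 * a * b)⁻¹ • X) hm
      simp only [smul_add, smul_smul, inv_mul_cancel₀ hc, one_smul, smul_zero] at this
      rw [eq_neg_of_add_eq_zero_right this, ← neg_smul]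
      congr 1; field_simp
  rcases mul_eq_zero.mp hab.2 with rfl | rfl
  · rcases mul_self_eq_one_iff.mp (show b * b = 1 by linear_combination hab.1) with rfl | rfl
    · exact Or.inr (Or.inr (Or.inl (Subtype.ext (Units.ext (by simp [he])))))
    · exact Or.inr (Or.inr (Or.inr (Subtype.ext (Units.ext (by simp [he, InvSetting.nn_val])))))
  · rcases mul_self_eq_one_iff.mp (show a * a = 1 by linear_combination hab.1) with rfl | rfl
    · exact Or.inl (Subtype.ext (Units.ext (by simp [he])))
    · exact Or.inr (Or.inl (Subtype.ext (Units.ext (by simp [he, InvSetting.nn_val]))))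

theorem Second.sq_eq_one_of_pow_four {x : hI.plane} (hx : x ∈ T) (h4 : x * x * (x * x) = 1) :
    x * x = 1 := by
  obtain ⟨w, hw⟩ := hT.exists_not_mem
  have hwx := TorusPair.chi_mul hT hw hx hx
  have h1 : w * (x * x) * w⁻¹ * (x * x) = 1 := by
    rw [hwx]; exact TorusPair.sq hT _ (TorusPair.invert hT w hw x hx)
  have hanti : ∀ y, x * x = y → y * y = 1 → w * y * w⁻¹ = y := fun y hy hy2 => by
    rw [hy] at h1
    rw [eq_inv_of_mul_eq_one_left h1]
    exact inv_eq_of_mul_eq_one_right hy2
  rcases h2.involutions (T.mul_mem hx hx) h4 with e | e | e | e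
  · exact e
  · exfalso
    obtain ⟨a, b, he⟩ := h2.coords hx
    have hm : (a * a + b * b + 1) • (1 : M2) + (2 * a * b) • ((t' : GL (Fin 2) F) : M2) = 0 := by
      have h1 : ((x : GL (Fin 2) F) : M2) * (x : GL (Fin 2) F) = -1 := by
        rw [← Units.val_mul, ← Subgroup.coe_mul, e, InvSetting.nn_val, Units.val_neg, Units.val_one]
      rw [he] at h1
      simp only [add_mul, mul_add, Matrix.smul_mul, Matrix.mul_smul, one_mul, mul_one, smul_smul, smul_add,
        h2.matrix_sq] at h1
      linear_combination (norm := module) h1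
    by_cases hc : 2 * a * b = 0
    · rw [hc, zero_smul, add_zero, smul_eq_zero, or_iff_left one_ne_zero] at hm
      have hab := (mul_eq_zero.mp (show (2 : F) * (a * b) = 0 by linear_combination hc)).resolve_left hI.two
      have hsc : IsScalarTwo ((x : GL (Fin 2) F) : M2) ∨
          IsScalarTwo (((x * t' : hI.plane) : GL (Fin 2) F) : M2) := by
        rcases mul_eq_zero.mp hab with rfl | rfl
        · exact Or.inr (isScalarTwo_iff.mpr ⟨b, by simp [he, h2.matrix_sq]⟩)
        · exact Or.inl (isScalarTwo_iff.mpr ⟨a, by simp [he]⟩)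
      have hne : hI.nn ≠ 1 := hI.nn_ne_one
      rcases hsc with hs | hs
      · rcases (hI.isScalarTwo_plane x.2).mp hs with e' | e' <;>
          exact hne (by rw [← e]; refine Subtype.ext ?_; simp [e'])
      · have h3 : (x * t') * (x * t') = 1 := by
          rcases (hI.isScalarTwo_plane (x * t').2).mp hs with e' | e' <;>
            exact Subtype.ext (by simp [e'])
        rw [show x * t' * (x * t') = x * (t' * x) * t' by group, TorusPair.comm hT t' h2.mem x hx,
          show x * (x * t') * t' = (x * x) * (t' * t') by group, h2.sq, mul_one, e] at h3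
        exact hne h3
    · refine h2.not_scalar (isScalarTwo_iff.mpr ⟨-(a * a + b * b + 1) / (2 * a * b), ?_⟩)
      have := congrArg (fun X : M2 => (2 * a * b)⁻¹ • X) hm
      simp only [smul_add, smul_smul, inv_mul_cancel₀ hc, one_smul, smul_zero] at this
      rw [eq_neg_of_add_eq_zero_right this, ← neg_smul]
      congr 1; field_simp
  · exfalso
    have := hanti t' e h2.sq
    rw [h2.anti hw, mul_eq_right] at this
    exact hI.nn_ne_one this
  · exfalso
    have hs : hI.nn * t' * (hI.nn * t') = 1 := by rw [← e]; exact h4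
    have := hanti _ e hs
    rw [show w * (hI.nn * t') * w⁻¹ = hI.nn * (w * t' * w⁻¹) by
      rw [← mul_assoc, ← hI.nn_comm w]; group, h2.anti hw, mul_right_inj, mul_eq_right] at this
    exact hI.nn_ne_one this

/-- The order of the torus is four times that of its odd part. -/
theorem Second.card_torus : Nat.card T = 4 * Nat.card hT.oddPart := by
  let sqh : T →* T := MonoidHom.mk' (fun x => x * x) fun x y => by
    rw [show x * y * (x * y) = x * (y * x) * y by group,
      show y * x = x * y from Subtype.ext (TorusPair.comm hT _ y.2 _ x.2)]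
    group
  have hk : Nat.card sqh.ker = 4 := by
    have e : sqh.ker = (Subgroup.closure {⟨t', h2.mem⟩, ⟨hI.nn, hT.nn_mem⟩} : Subgroup T) := by
      refine le_antisymm (fun x hx => ?_) ?_
      · have hx' : (x : hI.plane) * x = 1 := congrArg Subtype.val (MonoidHom.mem_ker.mp hx)
        have h1 := Subgroup.subset_closure (k := ({⟨t', h2.mem⟩, ⟨hI.nn, hT.nn_mem⟩} : Set T))
        rcases h2.involutions x.2 hx' with e | e | e | e
        · rw [show x = 1 from Subtype.ext e]; exact one_mem _
        · rw [show x = ⟨hI.nn, hT.nn_mem⟩ from Subtype.ext e]; exact h1 (by simp)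
        · rw [show x = ⟨t', h2.mem⟩ from Subtype.ext e]; exact h1 (by simp)
        · rw [show x = ⟨hI.nn, hT.nn_mem⟩ * ⟨t', h2.mem⟩ from Subtype.ext e]
          exact mul_mem (h1 (by simp)) (h1 (by simp))
      · rw [Subgroup.closure_le]
        rintro x (rfl | rfl)
        · exact Subtype.ext h2.sq
        · exact Subtype.ext hI.nn_mul_self
    have hset : (sqh.ker : Set T) = {1, ⟨hI.nn, hT.nn_mem⟩, ⟨t', h2.mem⟩, ⟨hI.nn * t', T.mul_mem hT.nn_mem h2.mem⟩} := by
      ext x
      simp only [SetLike.mem_coe, MonoidHom.mem_ker, Set.mem_insert_iff, Set.mem_singleton_iff]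
      constructor
      · intro hx
        rcases h2.involutions x.2 (congrArg Subtype.val hx) with e | e | e | e
        · exact Or.inl (Subtype.ext e)
        · exact Or.inr (Or.inl (Subtype.ext e))
        · exact Or.inr (Or.inr (Or.inl (Subtype.ext e)))
        · exact Or.inr (Or.inr (Or.inr (Subtype.ext e)))
      · rintro (rfl | rfl | rfl | rfl)
        · exact map_one sqh
        · exact Subtype.ext hI.nn_mul_self
        · exact Subtype.ext h2.sq
        · refine Subtype.ext ?_
          show hI.nn * t' * (hI.nn * t') = 1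
          rw [show hI.nn * t' * (hI.nn * t') = hI.nn * (t' * hI.nn) * t' by group, ← hI.nn_comm t',
            show hI.nn * (hI.nn * t') * t' = (hI.nn * hI.nn) * (t' * t') by group, hI.nn_mul_self, h2.sq,
            mul_one]
    rw [← SetLike.coe_sort_coe, Nat.card_coe_set_eq, hset]
    have a1 := h2.ne_one
    have a2 := h2.ne_nn
    have a3 := hI.nn_ne_one
    have a4 : hI.nn * t' ≠ 1 := fun h => a2 (by rw [← inv_eq_of_mul_eq_one_right h, inv_eq_of_mul_eq_one_right hI.nn_mul_self])
    have a5 : hI.nn * t' ≠ hI.nn := fun h => a1 (mul_eq_left.mp h)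
    have a6 : hI.nn * t' ≠ t' := fun h => a3 (mul_eq_right.mp h)
    rw [Set.ncard_insert_of_notMem, Set.ncard_insert_of_notMem, Set.ncard_insert_of_notMem,
      Set.ncard_singleton]
    · exact fun h => a6 (congrArg Subtype.val (Set.mem_singleton_iff.mp h)).symm
    · rintro (h | h)
      · exact a2 (congrArg Subtype.val h).symm
      · exact a5 (congrArg Subtype.val (Set.mem_singleton_iff.mp h)).symm
    · rintro (h | h | h)
      · exact a3 (congrArg Subtype.val h).symm
      · exact a1 (congrArg Subtype.val h).symm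
      · exact a4 (congrArg Subtype.val (Set.mem_singleton_iff.mp h)).symm
  have hr : sqh.range = hT.oddPart.subgroupOf T := by
    refine le_antisymm ?_ fun x hx => ?_
    · rintro _ ⟨x, rfl⟩
      rw [Subgroup.mem_subgroupOf, hT.mem_oddPart]
      show Odd (orderOf ((x : hI.plane) * x))
      obtain ⟨k, m, hm, hxm⟩ := Nat.exists_eq_two_pow_mul_odd (orderOf_pos (x : hI.plane)).ne'
      have key : ∀ j, ((x : hI.plane) ^ m) ^ 2 ^ j = 1 → ((x : hI.plane) ^ m) ^ 2 = 1 := by
        intro j
        induction j with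
        | zero => intro h; rw [pow_zero, pow_one] at h; rw [h, one_pow]
        | succ j ih =>
          intro h
          cases j with
          | zero => simpa using h
          | succ i =>
            refine ih ?_
            have h' := h2.sq_eq_one_of_pow_four (T.pow_mem (T.pow_mem x.2 m) (2 ^ i)) (by
              rw [← _root_.sq, ← _root_.sq, ← pow_mul, ← pow_mul]
              rwa [pow_succ, pow_succ, mul_assoc] at h)
            rwa [← _root_.sq, ← pow_mul, ← pow_succ] at h'
      have h1 := key k (by rw [← pow_mul, mul_comm, ← hxm, pow_orderOf_eq_one])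
      refine Odd.of_dvd_nat hm (orderOf_dvd_of_pow_eq_one ?_)
      rw [← _root_.sq, ← pow_mul, mul_comm, pow_mul]
      exact h1
    · rw [Subgroup.mem_subgroupOf, hT.mem_oddPart] at hx
      obtain ⟨i, hi⟩ := hx
      refine ⟨x ^ (i + 1), Subtype.ext ?_⟩
      show ((x : hI.plane) ^ (i + 1)) * (x : hI.plane) ^ (i + 1) = x
      rw [← pow_add, show i + 1 + (i + 1) = (2 * i + 1) + 1 by ring, pow_succ, ← hi, pow_orderOf_eq_one,
        one_mul]
  rw [← sqh.ker.card_mul_index, hk, Subgroup.index_ker, hr,
    Nat.card_congr (Subgroup.subgroupOfEquivOfLe (show hT.oddPart ≤ T from fun x hx => hx.1)).toEquiv]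

end InvSetting.IsTorus

end Cfsg.Agent.Linear.Mitchell
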