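import Cfsg.Agent.Linear.Mitchell.Cases.Klein

/-!
Fusion of the involutions of a four-group torus bounds its odd part by three.
-/

set_option autoImplicit false

namespace Cfsg.Agent.Linear.Mitchell

open scoped MatrixGroups Matrix
open Cfsg.Geo Matrix Cfsg.Agent.Linear

variable {F : Type*} [Field F] [Finite F] {P : Subgroup (GL (Fin 3) F)}

local notation "M2" => Matrix (Fin 2) (Fin 2) F
local notation "M3" => Matrix (Fin 3) (Fin 3) F

namespace InvSetting.IsTorus

variable {p : ℕ} {hI : InvSetting p P} {T : Subgroup hI.plane} {hT : hI.IsTorus T} {t' : hI.plane}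
  (h2 : hT.Second t')
include h2

/-- An involution of square one outside, and the element of order four. -/
theorem Second.exists_outside : ∃ w, w ∉ T ∧ w * w = 1 ∧ w * t' * (w * t') = hI.nn ∧
    w * t' * w = hI.nn * t' := by
  obtain ⟨w₀, hw₀⟩ := hT.exists_not_mem
  have hw : ∃ w, w ∉ T ∧ w * w = 1 := by
    rcases hT.sq_cases hw₀ with e | e
    · exact ⟨w₀, hw₀, e⟩
    · refine ⟨w₀ * t', fun h => hw₀ ((T.mul_mem_cancel_right h2.mem).mp h), ?_⟩
      rw [show w₀ * t' * (w₀ * t') = (w₀ * t' * w₀⁻¹) * (w₀ * w₀) * t' by group, h2.anti hw₀, e,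
        mul_assoc hI.nn t', ← hI.nn_comm t', ← mul_assoc, hI.nn_mul_self, one_mul, h2.sq]
  obtain ⟨w, hw, hw2⟩ := hw
  have hwi : w⁻¹ = w := inv_eq_of_mul_eq_one_right hw2
  have h3 : w * t' * w = hI.nn * t' := by
    have := h2.anti hw
    rwa [hwi] at this
  refine ⟨w, hw, hw2, ?_, h3⟩
  rw [← mul_assoc, h3, mul_assoc, h2.sq, mul_one]

variable (hodd : ¬ 2 ∣ (Subgroup.centralizer ({hI.tX} : Set (PX P))).index)
include hodd

/-- The second involution is conjugate to `tX`. -/
theorem Second.exists_conj : ∃ u : PX P, u * hI.tX * u⁻¹ = hI.planeHom t' := by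
  haveI : Fact (Nat.Prime 2) := ⟨Nat.prime_two⟩
  obtain ⟨w, hw, hw2, hσ, hwt⟩ := h2.exists_outside
  have hO : Odd (Nat.card hT.oddPart) := hT.odd_card_oddPart
  have hcard : Nat.card hI.plane = 8 * Nat.card hT.oddPart := by
    rw [← T.card_mul_index, TorusPair.idx hT, h2.card_torus]; ring
  set σ : hI.plane := w * t' with hσdef
  have hσ4 : orderOf σ = 4 := by
    refine orderOf_eq_prime_pow (p := 2) (n := 1) ?_ ?_
    · rw [pow_one, pow_two, hσ]; exact hI.nn_ne_one
    · rw [show (2 : ℕ) ^ (1 + 1) = 2 * 2 by norm_num, pow_mul, pow_two σ, hσ, pow_two, hI.nn_mul_self]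
  obtain ⟨R, hR⟩ := (IsPGroup.of_card (n := 2) (p := 2) (G := Subgroup.zpowers σ) (by
    rw [Nat.card_zpowers, hσ4]; norm_num)).exists_le_sylow
  have hRc : Nat.card (R : Subgroup hI.plane) = 8 := by
    rw [R.card_eq_multiplicity, hcard, Nat.factorization_mul (by norm_num) Nat.card_pos.ne', Finsupp.add_apply,
      Nat.factorization_eq_zero_of_not_dvd (fun h => Nat.not_even_iff_odd.mpr hO (even_iff_two_dvd.mpr h)),
      add_zero, show (8 : ℕ) = 2 ^ 3 by norm_num, Nat.Prime.factorization_pow Nat.prime_two, Finsupp.single_eq_same]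
  have ht'R : t' ∈ (R : Subgroup hI.plane) := by
    -- the four-group is normal
    let V : Subgroup hI.plane :=
      { carrier := {x | x ∈ T ∧ x * x = 1}
        one_mem' := ⟨T.one_mem, mul_one 1⟩
        mul_mem' := fun {a b} ha hb => ⟨T.mul_mem ha.1 hb.1, by
          rw [show a * b * (a * b) = a * (b * a) * b by group, TorusPair.comm hT b hb.1 a ha.1,
            show a * (a * b) * b = (a * a) * (b * b) by group, ha.2, hb.2, mul_one]⟩
        inv_mem' := fun {a} ha => ⟨T.inv_mem ha.1, by rw [← _root_.mul_inv_rev, ha.2, inv_one]⟩ }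
    have hV : V.Normal := ⟨fun x hx g => ⟨TorusPair.conj_mem hT g hx.1, by
      rw [show g * x * g⁻¹ * (g * x * g⁻¹) = g * (x * x) * g⁻¹ by group, hx.2]; group⟩⟩
    have hp : IsPGroup 2 V := fun x => ⟨1, Subtype.ext (by
      rw [pow_one, pow_two, Subgroup.coe_mul]; exact x.2.2)⟩
    exact hp.le_sylow_of_normal R (show t' ∈ V from ⟨h2.mem, h2.sq⟩)
  have hσR : σ ∈ (R : Subgroup hI.plane) := hR (Subgroup.mem_zpowers σ)
  set A := (Subgroup.zpowers σ).subgroupOf (R : Subgroup hI.plane) with hA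
  have hAc : Nat.card A = 4 := by
    rw [Nat.card_congr (Subgroup.subgroupOfEquivOfLe hR).toEquiv, Nat.card_zpowers, hσ4]
  haveI : IsCyclic A := isCyclic_of_surjective (Subgroup.subgroupOfEquivOfLe hR).symm.toMonoidHom
    (MulEquiv.surjective _)
  have ht'σ : t' * σ * t'⁻¹ = σ⁻¹ := by
    have hti : t'⁻¹ = t' := inv_eq_of_mul_eq_one_right h2.sq
    rw [hti, hσdef, _root_.mul_inv_rev, hti, inv_eq_of_mul_eq_one_right hw2, mul_assoc,
      mul_assoc w t' t', h2.sq, mul_one]
  have ht'A : (⟨t', ht'R⟩ : (R : Subgroup hI.plane)) ∉ A := by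
    rw [hA, Subgroup.mem_subgroupOf]
    intro hmem
    obtain ⟨k, hk⟩ := Subgroup.mem_zpowers_iff.mp hmem
    have hc : t' * σ * t'⁻¹ = σ := by
      have hk' : σ ^ k = t' := hk
      rw [← hk']; group
    rw [ht'σ] at hc
    have : σ * σ = 1 := by nth_rewrite 1 [← hc]; exact inv_mul_cancel σ
    exact hI.nn_ne_one (by rw [← hσ]; exact this)
  obtain ⟨eD⟩ := Linear.Dickson.iso_dihedral_of_inverter A (by rw [hAc, hRc]) (w := ⟨t', ht'R⟩) ht'A
    (Subtype.ext h2.sq) fun y hy => Subtype.ext (by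
      obtain ⟨k, hk⟩ := Subgroup.mem_zpowers_iff.mp (Subgroup.mem_subgroupOf.mp hy)
      simp only [Subgroup.coe_mul, Subgroup.coe_inv, ← hk]
      rw [← conj_zpow, ht'σ, _root_.inv_zpow])
  obtain ⟨S, hS⟩ := hI.exists_sylow_map hodd R
  rw [hAc] at eD
  refine Cfsg.Agent.S0107.result S 2 le_rfl
    ⟨((MulEquiv.subgroupCongr hS).trans (Subgroup.equivMapOfInjective _ _ hI.planeHom_injective).symm).trans eD⟩
    hI.toSetting.pResidual_two_eq_top _ _ hI.orderOf_tX ?_
  rw [orderOf_injective _ hI.planeHom_injective]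
  exact orderOf_eq_prime (by rw [pow_two, h2.sq]) h2.ne_one

omit hodd in
theorem Second.blk_one_add : blk (-((t' : GL (Fin 2) F) : M2)) * blk (-((t' : GL (Fin 2) F) : M2)) = 1 := by
  rw [← blk_mul, neg_mul_neg, h2.matrix_sq, blk_one]

/-- The odd part of the torus has order one or three. -/
theorem Second.card_oddPart : Nat.card hT.oddPart = 1 ∨ Nat.card hT.oddPart = 3 := by
  classical
  obtain ⟨u, hu⟩ := h2.exists_conj hodd
  obtain ⟨G, rfl⟩ := px_surjective u
  obtain ⟨ht, cT, hcT, heT, hpT, hdT⟩ := hI.exists_lift t'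
  rw [h2.det_eq] at hdT
  rw [hpT, InvSetting.tX, ← map_inv, ← map_mul, ← map_mul, px_eq_iff] at hu
  obtain ⟨z, hz⟩ := hu
  set Gm : M3 := ((G : GL (Fin 3) F) : M3) with hGm
  set Gi : M3 := (((G⁻¹ : P) : GL (Fin 3) F) : M3) with hGi
  set t : M3 := ((t0 : GL (Fin 3) F) : M3) with ht0
  set M : M2 := ((t' : GL (Fin 2) F) : M2) with hM
  have hG : Gm * Gi = 1 := by
    rw [hGm, hGi, ← Units.val_mul, ← Subgroup.coe_mul, mul_inv_cancel, Subgroup.coe_one, Units.val_one]
  have hG' : Gi * Gm = 1 := by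
    rw [hGm, hGi, ← Units.val_mul, ← Subgroup.coe_mul, inv_mul_cancel, Subgroup.coe_one, Units.val_one]
  simp only [Subgroup.coe_mul, Units.val_mul, heT, ← hGm, ← hGi, ← ht0] at hz
  have htt : t * t = 1 := by rw [ht0, ← Units.val_mul, t0_mul_self, Units.val_one]
  obtain ⟨k, hkey⟩ : ∃ k : F, Gm * t * Gi = k • blk M := by
    have hz0 : z ≠ 0 := fun e => by
      rw [e, zero_smul] at hz
      have := congrFun (congrFun hz 0) 0
      simp [blk, hcT] at this
    exact ⟨z⁻¹ * cT, by rw [← smul_smul, hz, smul_smul, inv_mul_cancel₀ hz0, one_smul]⟩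
  have hk1 : k = -1 := by
    have hsq : (Gm * t * Gi) * (Gm * t * Gi) = 1 := by
      rw [show (Gm * t * Gi) * (Gm * t * Gi) = Gm * (t * (Gi * Gm) * t) * Gi by simp only [mul_assoc], hG',
        mul_one, htt, mul_one, hG]
    rw [hkey, smul_mul_smul_comm, ← blk_mul, h2.matrix_sq, blk_one] at hsq
    have hk2 : k * k = 1 := by simpa using congrFun (congrFun hsq 0) 0
    have hd := congrArg Matrix.det hkey
    rw [Matrix.det_mul, Matrix.det_mul, Matrix.det_smul, det_blk, h2.det_eq,
      Fintype.card_fin, ht0, t0_val, Matrix.det_diagonal, Fin.prod_univ_three] at hd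
    have hGG : Gm.det * Gi.det = 1 := by rw [← Matrix.det_mul, hG, Matrix.det_one]
    simp at hd
    linear_combination hd - hGG - k * hk2
  rw [hk1] at hkey
  -- the eigenvalue of an odd element on the fixed space
  have hroot : ∀ y : hT.oddPart, ∃ a b : F, (((y : hI.plane) : GL (Fin 2) F) : M2) = a • (1 : M2) + b • M ∧
      (a + b) * (a - b) = 1 ∧ (a - b) ^ 3 = 1 := by
    intro y
    have hy := hT.mem_oddPart.mp y.2
    obtain ⟨a, b, hab⟩ := h2.coords (y.2 : (y : hI.plane) ∈ hT.oddPart).1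
    have hdet := (h2.det_coords hab).symm.trans (hT.det_of_odd hy)
    refine ⟨a, b, hab, hdet, ?_⟩
    obtain ⟨h, c, hc, he, hph, hdc⟩ := hI.exists_lift (y : hI.plane)
    rw [hT.det_of_odd hy, mul_one] at hdc
    set B : M2 := (((y : hI.plane) : GL (Fin 2) F) : M2) with hB
    have hBM : B * M = M * B := by
      rw [hB, hM, ← Units.val_mul, ← Units.val_mul, ← Subgroup.coe_mul, ← Subgroup.coe_mul,
        TorusPair.comm hT _ (y.2 : (y : hI.plane) ∈ hT.oddPart).1 t' h2.mem]
    set s : P := G⁻¹ * h * G with hs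
    have hsv : ((s : GL (Fin 3) F) : M3) = c • (Gi * blk B * Gm) := by
      simp only [hs, Subgroup.coe_mul, Units.val_mul, he, ← hGm, ← hGi, mul_smul_comm, smul_mul_assoc]
    have hGt : Gm * t = (-1 : F) • blk M * Gm := by
      rw [← hkey, mul_assoc (Gm * t), hG', mul_one]
    have htG : t * Gi = Gi * ((-1 : F) • blk M) := by
      rw [← hkey, ← mul_assoc, ← mul_assoc, hG', one_mul]
    have hst : ((s : GL (Fin 3) F) : M3) * t = t * ((s : GL (Fin 3) F) : M3) := by
      rw [hsv, smul_mul_assoc, mul_smul_comm, mul_assoc, hGt, ← mul_assoc t, ← mul_assoc t, htG]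
      congr 1
      simp only [mul_assoc, smul_mul_assoc, mul_smul_comm]
      congr 2
      rw [← mul_assoc, ← mul_assoc, ← blk_mul, ← blk_mul, hBM]
    have hs0 : (s : GL (Fin 3) F) ∈ cen0 P :=
      ⟨s.2, Subgroup.mem_centralizer_singleton_iff.mpr (Units.ext hst)⟩
    obtain ⟨d, hd0, hde, hdd⟩ := hI.psi_spec ⟨s, hs0⟩
    have hords : Odd (orderOf (⟨hI.psi ⟨s, hs0⟩, ⟨s, hs0⟩, rfl⟩ : hI.plane)) := by
      rw [← orderOf_injective _ hI.planeHom_injective, hI.planeHom_psi ⟨s, hs0⟩]
      have : px P s = (px P G)⁻¹ * hI.planeHom (y : hI.plane) * px P G := by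
        rw [hs, map_mul, map_mul, map_inv, hph]
      rw [show (⟨((⟨s, hs0⟩ : cen0 P) : GL (Fin 3) F), _⟩ : P) = s from rfl, this]
      have hc' := orderOf_injective (MulAut.conj (px P G)⁻¹).toMonoidHom (MulAut.conj _).injective
        (hI.planeHom (y : hI.plane))
      simp only [MulEquiv.coe_toMonoidHom, MulAut.conj_apply, inv_inv] at hc'
      rw [hc', orderOf_injective _ hI.planeHom_injective]
      exact hy
    have hdd3 : d ^ 3 = 1 := by
      have := hT.det_of_odd hords
      rw [show ((⟨hI.psi ⟨s, hs0⟩, ⟨s, hs0⟩, rfl⟩ : hI.plane) : GL (Fin 2) F) = hI.psi ⟨s, hs0⟩ from rfl] at this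
      rwa [this, mul_one] at hdd
    -- act on the fixed space
    have hfix : c • (blk B * (1 + (-1 : F) • blk M)) = d • (1 + (-1 : F) • blk M) := by
      have e1 : ((s : GL (Fin 3) F) : M3) * (1 + t) = d • (1 + t) := by
        rw [show ((s : GL (Fin 3) F) : M3) = _ from hde, ht0, t0_val]
        ext i j
        fin_cases i <;> fin_cases j <;> simp [blk, Matrix.mul_apply, Fin.sum_univ_three, Matrix.add_apply, Matrix.one_apply]
      have e2 : Gm * (1 + t) * Gi = 1 + (-1 : F) • blk M := by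
        rw [mul_add, mul_one, add_mul, hG, hkey]
      have e3 := congrArg (fun X : M3 => Gm * X * Gi) e1
      simp only [mul_smul_comm, smul_mul_assoc, hsv] at e3
      rw [e2, show Gm * (Gi * blk B * Gm * (1 + t)) * Gi = (Gm * Gi) * blk B * (Gm * (1 + t) * Gi) by
        simp only [mul_assoc], hG, one_mul, e2] at e3
      exact e3
    have hplane : (c * (a - b) - d) • ((1 : M2) - M) = 0 := by
      have h1 : blk B * (1 + (-1 : F) • blk M) = blk B + (-1 : F) • blk (B * M) := by
        rw [mul_add, mul_one, mul_smul_comm, blk_mul]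
      rw [h1] at hfix
      have hsub : ∀ X : M2, (blk X).submatrix Fin.succ Fin.succ = X := fun X => by
        ext i j
        fin_cases i <;> fin_cases j <;> simp [blk]
      have e := congrArg (fun X : M3 => X.submatrix Fin.succ Fin.succ) hfix
      simp only [Matrix.submatrix_smul, Pi.smul_apply, Matrix.submatrix_add, Pi.add_apply, hsub,
        Matrix.submatrix_one Fin.succ (Fin.succ_injective _)] at e
      have hBM' : B * M = b • (1 : M2) + a • M := by
        rw [hab, add_mul, Matrix.smul_mul, Matrix.smul_mul, one_mul, hM, h2.matrix_sq, add_comm]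
      rw [hBM', hab, ← hM] at e
      linear_combination (norm := module) e
    rw [smul_eq_zero, sub_eq_zero, or_iff_left (sub_ne_zero.mpr fun e => h2.not_scalar
      (isScalarTwo_iff.mpr ⟨1, by rw [one_smul]; exact e.symm⟩))] at hplane
    have : c ^ 3 * (a - b) ^ 3 = 1 := by rw [← mul_pow, hplane, hdd3]
    rwa [hdc, one_mul] at this
  choose a b hab hdet hcube using hroot
  have hinj : Function.Injective fun y => (⟨a y - b y, hcube y⟩ : {r : F // r ^ 3 = 1}) := by
    intro y y' e
    have e' : a y - b y = a y' - b y' := congrArg Subtype.val e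
    have hne : a y - b y ≠ 0 := right_ne_zero_of_mul_eq_one (hdet y)
    have e'' : a y + b y = a y' + b y' := mul_right_cancel₀ hne (by rw [hdet y, e', hdet y'])
    have ea : a y = a y' :=
      mul_left_cancel₀ hI.two (show (2 : F) * a y = 2 * a y' by linear_combination e' + e'')
    have eb : b y = b y' := by linear_combination ea - e'
    exact Subtype.ext (Subtype.ext (Units.ext (by rw [hab y, hab y', ea, eb])))
  haveI : Fintype F := Fintype.ofFinite F
  have hle : Nat.card hT.oddPart ≤ 3 := by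
    refine (Nat.card_le_card_of_injective _ hinj).trans ?_
    rw [Nat.card_eq_fintype_card, Fintype.card_subtype]
    refine le_trans (Finset.card_le_card (fun r hr => ?_)) (Polynomial.card_nthRoots 3 (1 : F) |>.trans' (Multiset.toFinset_card_le _))
    rw [Finset.mem_filter] at hr
    rw [Multiset.mem_toFinset, Polynomial.mem_nthRoots (by norm_num)]
    exact hr.2
  obtain ⟨i, hi⟩ := hT.odd_card_oddPart
  omega

end InvSetting.IsTorus

end Cfsg.Agent.Linear.Mitchell
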