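import Cfsg.Agent.Linear.Mitchell.Cases.KleinFusion
import Cfsg.Agent.BlockBasic.Local
import Cfsg.Agent.S0848
import Cfsg.Agent.S4481
import Cfsg.Agent.S4482

/-!
A torus containing a four-group: `P` modulo scalars has order 168, 360, 2520 or 3672.
-/

set_option autoImplicit false

namespace Cfsg.Agent.Linear.Mitchell

open scoped MatrixGroups Matrix
open Cfsg.Geo Matrix

variable {F : Type*} [Field F] [Finite F] {P : Subgroup (GL (Fin 3) F)}

theorem degree_equation {g : ℕ} (x δ : ℤ) (hδ : δ = 1 ∨ δ = -1) (hne : x ≠ δ) (hx : 0 ≤ x)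
    (hg : g % 16 = 8) (h : (g : ℤ) * (x - δ) ^ 2 = 3072 * x * (x + δ)) : g = 2520 ∨ g = 3672 := by
  obtain ⟨y, rfl⟩ : ∃ y, x = y + δ := ⟨x - δ, by ring⟩
  rw [show y + δ - δ = y by ring] at h
  have hy0 : y ≠ 0 := fun e => hne (by rw [e, zero_add])
  have hd2 : δ * δ = 1 := by rcases hδ with rfl | rfl <;> norm_num
  have hdvd : y ∣ 6144 := ⟨g * y - 3072 * y - 9216 * δ, by linear_combination -h - 6144 * hd2⟩
  have hmem : y.natAbs ∈ Nat.divisors 6144 := by
    rw [Nat.mem_divisors]
    exact ⟨by simpa using Int.natAbs_dvd_natAbs.mpr hdvd, by norm_num⟩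
  have hlist : Nat.divisors 6144 = ({1, 2, 3, 4, 6, 8, 12, 16, 24, 32, 48, 64, 96, 128, 192, 256, 384,
      512, 768, 1024, 1536, 2048, 3072, 6144} : Finset ℕ) := by decide +kernel
  rw [hlist] at hmem
  simp only [Finset.mem_insert, Finset.mem_singleton] at hmem
  rcases Int.natAbs_eq y with e | e <;>
    (rw [e] at h hx; rcases hδ with rfl | rfl <;>
      (rcases hmem with m | m | m | m | m | m | m | m | m | m | m | m | m | m | m | m | m | m | m | m | m |
        m | m | m <;> rw [m] at h hx <;> norm_num at h hx <;> omega))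

namespace InvSetting.IsTorus

variable {p : ℕ} {hI : InvSetting p P} {T : Subgroup hI.plane} {hT : hI.IsTorus T} {t' : hI.plane}
  (h2 : hT.Second t') (hodd : ¬ 2 ∣ (Subgroup.centralizer ({hI.tX} : Set (PX P))).index)
include h2 hodd

/-- The orders in the four-group case. -/
theorem Second.card_cases : projCard P = 168 ∨ projCard P = 360 ∨
    ((projCard P = 2520 ∨ projCard P = 3672) ∧
      Nat.card (Subgroup.centralizer ({hI.tX} : Set (PX P))) = 24) := by
  classical
  haveI : Fact (Nat.Prime 2) := ⟨Nat.prime_two⟩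
  haveI := hI.toSetting.isPerfect
  obtain ⟨w, hw, hw2, hσ, hwt⟩ := h2.exists_outside
  have hcard : Nat.card hI.plane = 8 * Nat.card hT.oddPart := by
    rw [← T.card_mul_index, TorusPair.idx hT, h2.card_torus]; ring
  set σ : hI.plane := w * t' with hσdef
  have hti : t'⁻¹ = t' := inv_eq_of_mul_eq_one_right h2.sq
  have hwi : w⁻¹ = w := inv_eq_of_mul_eq_one_right hw2
  have ht'σ : t' * σ * t'⁻¹ = σ⁻¹ := by
    rw [hti, hσdef, _root_.mul_inv_rev, hti, hwi, mul_assoc, mul_assoc w t' t', h2.sq, mul_one]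
  have hσ4 : orderOf σ = 4 := by
    refine orderOf_eq_prime_pow (p := 2) (n := 1) ?_ ?_
    · rw [pow_one, pow_two, hσ]; exact hI.nn_ne_one
    · rw [show (2 : ℕ) ^ (1 + 1) = 2 * 2 by norm_num, pow_mul, pow_two σ, hσ, pow_two, hI.nn_mul_self]
  -- a dihedral Sylow subgroup generated by σ and t'
  set D8 : Subgroup hI.plane := Subgroup.closure {σ, t'} with hD8
  have hσD : σ ∈ D8 := Subgroup.subset_closure (by simp)
  have htD : t' ∈ D8 := Subgroup.subset_closure (by simp)
  have hσt : t' ∉ Subgroup.zpowers σ := by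
    intro hmem
    obtain ⟨k, hk⟩ := Subgroup.mem_zpowers_iff.mp hmem
    have hc : t' * σ * t'⁻¹ = σ := by rw [← hk]; group
    rw [ht'σ] at hc
    have : σ * σ = 1 := by nth_rewrite 1 [← hc]; exact inv_mul_cancel σ
    exact hI.nn_ne_one (by rw [← hσ]; exact this)
  set A : Subgroup D8 := (Subgroup.zpowers σ).subgroupOf D8 with hA
  have hAle : Subgroup.zpowers σ ≤ D8 := Subgroup.zpowers_le.mpr hσD
  have hAc : Nat.card A = 4 := by
    rw [Nat.card_congr (Subgroup.subgroupOfEquivOfLe hAle).toEquiv, Nat.card_zpowers, hσ4]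
  haveI hAcyc : IsCyclic A := isCyclic_of_surjective (Subgroup.subgroupOfEquivOfLe hAle).symm.toMonoidHom
    (MulEquiv.surjective _)
  have hnor : t' ∈ Subgroup.normalizer (Subgroup.zpowers σ : Set hI.plane) := by
    rw [Subgroup.mem_normalizer_iff]
    intro z
    constructor
    · rintro ⟨k, rfl⟩
      exact ⟨-k, by show σ ^ (-k) = t' * σ ^ k * t'⁻¹; rw [← conj_zpow, ht'σ, _root_.inv_zpow, _root_.zpow_neg]⟩
    · intro hz
      obtain ⟨k, hk⟩ := Subgroup.mem_zpowers_iff.mp hz
      refine ⟨-k, ?_⟩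
      have hzc : z = t' * (t' * z * t'⁻¹) * t'⁻¹ := by
        rw [hti, show t' * (t' * z * t') * t' = (t' * t') * z * (t' * t') by group, h2.sq, one_mul, mul_one]
      show σ ^ (-k) = z
      rw [hzc, ← hk, ← conj_zpow, ht'σ, _root_.inv_zpow, _root_.zpow_neg]
  have hDle : D8 ≤ Subgroup.normalizer (Subgroup.zpowers σ : Set hI.plane) := by
    rw [hD8, Subgroup.closure_le]
    rintro z (rfl | rfl)
    · exact Subgroup.le_normalizer (Subgroup.mem_zpowers _)
    · exact hnor
  haveI hAn : A.Normal := (Subgroup.normal_subgroupOf_iff_le_normalizer hAle).mpr hDle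
  have hidx : A.index = 2 := by
    let q : D8 →* D8 ⧸ A := QuotientGroup.mk' A
    have hq : ∀ z : D8, q z ∈ ({1, q ⟨t', htD⟩} : Set (D8 ⧸ A)) := by
      have hqσ : q ⟨σ, hσD⟩ = 1 := (QuotientGroup.eq_one_iff _).mpr (Subgroup.mem_zpowers σ)
      have hqt : q ⟨t', htD⟩ * q ⟨t', htD⟩ = 1 := by
        rw [← map_mul, show (⟨t', htD⟩ : D8) * ⟨t', htD⟩ = 1 from Subtype.ext h2.sq, map_one]
      rintro ⟨z, hz⟩
      induction hz using Subgroup.closure_induction with
      | mem z hz =>
        rcases hz with rfl | rfl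
        · exact Or.inl hqσ
        · exact Or.inr rfl
      | one => exact Or.inl (map_one q)
      | mul a b ha hb iha ihb =>
        rw [show (⟨a * b, _⟩ : D8) = ⟨a, ha⟩ * ⟨b, hb⟩ from rfl, map_mul]
        rcases iha with e | e <;> rcases ihb with e' | e' <;> rw [e, e']
        · left; simp
        · right; simp
        · right; simp
        · left; exact hqt
      | inv a ha iha =>
        rw [show (⟨a⁻¹, _⟩ : D8) = (⟨a, ha⟩ : D8)⁻¹ from rfl, map_inv]
        rcases iha with e | e <;> rw [e]
        · left; simp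
        · right; exact inv_eq_of_mul_eq_one_right hqt
    rw [Subgroup.index]
    refine le_antisymm ?_ ?_
    · refine (Nat.card_le_card_of_injective (fun x => (⟨x, ?_⟩ : ({1, q ⟨t', htD⟩} : Set (D8 ⧸ A))))
        fun a b e => congrArg Subtype.val e).trans ?_
      · obtain ⟨z, rfl⟩ := QuotientGroup.mk'_surjective A x
        exact hq z
      · rw [Nat.card_coe_set_eq]
        exact (Set.ncard_insert_le _ _).trans (by rw [Set.ncard_singleton])
    · by_contra hlt
      have hsub : Subsingleton (D8 ⧸ A) := Finite.card_le_one_iff_subsingleton.mp (by omega)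
      exact hσt ((QuotientGroup.eq_one_iff (N := A) (⟨t', htD⟩ : D8)).mp (Subsingleton.elim _ _))
  have hD8c : Nat.card D8 = 8 := by rw [← A.card_mul_index, hAc, hidx]
  obtain ⟨eD⟩ := Linear.Dickson.iso_dihedral_of_inverter A (by rw [hAc, hD8c]) (w := ⟨t', htD⟩)
    (fun h => hσt h) (Subtype.ext h2.sq) fun y hy => Subtype.ext (by
      obtain ⟨k, hk⟩ := Subgroup.mem_zpowers_iff.mp (Subgroup.mem_subgroupOf.mp hy)
      simp only [Subgroup.coe_mul, Subgroup.coe_inv, ← hk]
      rw [← conj_zpow, ht'σ, _root_.inv_zpow])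
  rw [hAc] at eD
  rcases h2.card_oddPart hodd with h1 | h3
  · -- order eight
    rw [h1, mul_one] at hcard
    have htop : D8 = ⊤ := Subgroup.eq_top_of_card_eq _ (by rw [hD8c, hcard])
    have e : Subgroup.centralizer ({hI.tX} : Set (PX P)) ≃* DihedralGroup 4 :=
      hI.cenIso.trans (Subgroup.topEquiv.symm.trans ((MulEquiv.subgroupCongr htop.symm).trans eD))
    rcases Cfsg.Agent.S0848.result Group.IsPerfect.commutator_eq_top hI.tX hI.orderOf_tX e with h | h
    · exact Or.inl h
    · exact Or.inr (Or.inl h)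
  -- order twenty-four
  right; right
  rw [h3] at hcard
  refine ⟨?_, by rw [← hI.card_plane, hcard]⟩
  have hR : Nat.card D8 = 2 ^ (Nat.card hI.plane).factorization 2 := by
    rw [hD8c, hcard, show 8 * 3 = 2 ^ 3 * 3 from rfl, Nat.factorization_mul (by norm_num) (by norm_num),
      Finsupp.add_apply, Nat.Prime.factorization_pow Nat.prime_two, Finsupp.single_eq_same,
      Nat.factorization_eq_zero_of_not_dvd (show ¬ 2 ∣ 3 by decide)]
    norm_num
  obtain ⟨S, hS⟩ := hI.exists_sylow_map hodd (Sylow.ofCard D8 hR)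
  have hS' : (S : Subgroup (PX P)) = D8.map hI.planeHom := hS
  set sX : PX P := hI.planeHom σ with hsX
  set tt : PX P := hI.planeHom t' with htt
  have hsq : sX ^ 2 ^ (3 - 2) = hI.tX := by
    rw [show (2 : ℕ) ^ (3 - 2) = 2 from rfl, pow_two, hsX, ← map_mul, hσ]
    exact hI.planeHom_neg_one
  have hsord : orderOf sX = 2 ^ (3 - 1) := by
    rw [hsX, orderOf_injective _ hI.planeHom_injective, hσ4]; norm_num
  have htord : orderOf tt = 2 := by
    rw [htt, orderOf_injective _ hI.planeHom_injective]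
    exact orderOf_eq_prime (by rw [pow_two, h2.sq]) h2.ne_one
  have hsX_S : sX ∈ (S : Subgroup (PX P)) := by rw [hS']; exact Subgroup.mem_map_of_mem _ hσD
  have htX_S : tt ∈ (S : Subgroup (PX P)) := by rw [hS']; exact Subgroup.mem_map_of_mem _ htD
  have eS : Nonempty ((S : Subgroup (PX P)) ≃* DihedralGroup (2 ^ (3 - 1))) := by
    have e : (S : Subgroup (PX P)) ≃* DihedralGroup 4 := ((MulEquiv.subgroupCongr hS').trans
      (Subgroup.equivMapOfInjective _ _ hI.planeHom_injective).symm).trans eD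
    exact ⟨e⟩
  have hconjall : ∀ x : PX P, orderOf x = 2 → IsConj (sX ^ 2 ^ (3 - 2)) x := by
    intro x hx
    rw [hsq]
    obtain ⟨c, hc⟩ := Cfsg.Agent.S0107.result S 2 le_rfl eS hI.toSetting.pResidual_two_eq_top
      hI.tX x hI.orderOf_tX hx
    exact isConj_iff.mpr ⟨c, hc⟩
  have hsw : σ * t' = w := by rw [hσdef, mul_assoc, h2.sq, mul_one]
  have hwne : w ≠ 1 := fun e => hw (e ▸ T.one_mem)
  obtain ⟨M, hM⟩ := BlockBasic.exists_isPModular Nat.prime_two
  have hζ : IsPrimitiveRoot (Complex.exp (2 * Real.pi * Complex.I / (2 ^ (3 - 1) : ℕ))) (2 ^ (3 - 1)) :=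
    Complex.isPrimitiveRoot_exp _ (by norm_num)
  obtain ⟨-, χ₁, χ₂, χ₃, χ', δ₁, δ₂, δ₃, hδ₁, -, -, -, hne₁, -, -, -, -, -, -, hblk, hval, -⟩ :=
    Cfsg.Agent.S4481.result M hM 3 le_rfl S eS sX hsX_S hsord _ hζ
  have hmem : χ₁ ∈ Cfsg.principalBlock M (PX P) := by rw [hblk]; exact Or.inr (Or.inl rfl)
  obtain ⟨hdeg, heq⟩ := Cfsg.Agent.S4482.result M hM 3 le_rfl S sX tt hsX_S htX_S hsord htord
    (by rw [hsX, htt, ← map_inv, ← map_mul, ← map_mul, ← map_inv, ht'σ])
    (by
      rw [hS', hD8, MonoidHom.map_closure]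
      congr 1
      rw [Set.image_insert_eq, Set.image_singleton])
    ⟨hconjall tt htord, hconjall (sX * tt) (by
      rw [hsX, htt, ← map_mul, hsw, orderOf_injective _ hI.planeHom_injective]
      exact orderOf_eq_prime (by rw [pow_two, hw2]) hwne)⟩
    χ₁ hmem hne₁ δ₁ hδ₁ fun l hl hl' => (hval l hl hl').1
  have hcen : ∀ v : hI.plane, Subgroup.centralizer ({hI.tX, hI.planeHom v} : Set (PX P)) =
      (Subgroup.centralizer ({v} : Set hI.plane)).map hI.planeHom := by
    intro v
    ext x
    rw [Subgroup.mem_centralizer_iff, Subgroup.mem_map]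
    constructor
    · intro hx
      obtain ⟨z, rfl⟩ : x ∈ hI.planeHom.range := by
        rw [hI.range_planeHom, Subgroup.mem_centralizer_singleton_iff]
        exact (hx hI.tX (by simp)).symm
      refine ⟨z, ?_, rfl⟩
      rw [Subgroup.mem_centralizer_singleton_iff]
      exact hI.planeHom_injective (by rw [map_mul, map_mul]; exact (hx _ (by simp)).symm)
    · rintro ⟨z, hz, rfl⟩ y (rfl | rfl)
      · rw [← hI.planeHom_neg_one, ← map_mul, ← map_mul]
        exact congrArg _ (hI.nn_comm z)
      · rw [← map_mul, ← map_mul, Subgroup.mem_centralizer_singleton_iff.mp hz]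
  have hc1 : Nat.card (Subgroup.centralizer ({hI.tX, tt} : Set (PX P))) = 12 := by
    rw [htt, hcen, Subgroup.card_map_of_injective hI.planeHom_injective]
    have e : Subgroup.centralizer ({t'} : Set hI.plane) = T := by
      ext z
      rw [Subgroup.mem_centralizer_singleton_iff]
      refine ⟨fun hz => ?_, fun hz => TorusPair.comm hT z hz t' h2.mem⟩
      by_contra hzT
      have := h2.anti hzT
      rw [hz, mul_inv_cancel_right, eq_comm, mul_eq_right] at this
      exact hI.nn_ne_one this
    rw [e, h2.card_torus, h3]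
  have hc2 : Nat.card (Subgroup.centralizer ({hI.tX, sX * tt} : Set (PX P))) = 4 := by
    rw [hsX, htt, ← map_mul, hsw, hcen, Subgroup.card_map_of_injective hI.planeHom_injective]
    have hset : (Subgroup.centralizer ({w} : Set hI.plane) : Set hI.plane) = {1, hI.nn, w, w * hI.nn} := by
      have inT : ∀ z ∈ T, z * w = w * z → z = 1 ∨ z = hI.nn := by
        intro z hz hc
        have hs := hI.mem_signs.mp (TorusPair.invert hT w hw z hz)
        have hzz : w * z * w⁻¹ * z = z * z := by rw [← hc, mul_inv_cancel_right]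
        rw [hzz] at hs
        have h4 : z * z * (z * z) = 1 := by
          rcases hs with e | e <;> rw [e]
          · exact mul_one 1
          · exact hI.nn_mul_self
        rcases h2.involutions hz (h2.sq_eq_one_of_pow_four hz h4) with e | e | e | e
        · exact Or.inl e
        · exact Or.inr e
        · exfalso
          have := h2.anti hw
          rw [← e, ← hc, mul_inv_cancel_right, eq_comm, mul_eq_right] at this
          exact hI.nn_ne_one this
        · exfalso
          have := h2.anti hw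
          rw [show t' = hI.nn * z by rw [e, ← mul_assoc, hI.nn_mul_self, one_mul]] at this
          rw [show w * (hI.nn * z) * w⁻¹ = hI.nn * (w * z * w⁻¹) by rw [← mul_assoc, ← hI.nn_comm w]; group,
            ← hc, mul_inv_cancel_right, eq_comm, mul_eq_right] at this
          exact hI.nn_ne_one this
      ext z
      simp only [SetLike.mem_coe, Subgroup.mem_centralizer_singleton_iff, Set.mem_insert_iff, Set.mem_singleton_iff]
      constructor
      · intro hz
        by_cases hzT : z ∈ T
        · rcases inT z hzT hz with e | e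
          · exact Or.inl e
          · exact Or.inr (Or.inl e)
        · have hm := TorusPair.inv_mul_mem hT hw hzT
          have hc : (w⁻¹ * z) * w = w * (w⁻¹ * z) := by rw [mul_assoc, hz]; group
          rcases inT _ hm hc with e | e
          · exact Or.inr (Or.inr (Or.inl (inv_mul_eq_one.mp e).symm))
          · exact Or.inr (Or.inr (Or.inr (inv_mul_eq_iff_eq_mul.mp e)))
      · rintro (rfl | rfl | rfl | rfl)
        · simp
        · exact hI.nn_comm w
        · rfl
        · rw [mul_assoc, hI.nn_comm w]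
    rw [← SetLike.coe_sort_coe, Nat.card_coe_set_eq, hset]
    rw [Set.ncard_insert_of_notMem, Set.ncard_insert_of_notMem, Set.ncard_insert_of_notMem,
      Set.ncard_singleton]
    · intro h
      exact hI.nn_ne_one (mul_eq_left.mp (Set.mem_singleton_iff.mp h).symm)
    · rintro (h | h)
      · exact hw (h ▸ hT.nn_mem)
      · exact hwne (mul_eq_right.mp (Set.mem_singleton_iff.mp h).symm)
    · rintro (h | h | h)
      · exact hI.nn_ne_one h.symm
      · exact hwne h.symm
      · have := (Set.mem_singleton_iff.mp h).symm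
        rw [mul_eq_one_iff_eq_inv] at this
        exact hw (this ▸ T.inv_mem hT.nn_mem)
  have hct : Nat.card (Subgroup.centralizer ({hI.tX} : Set (PX P))) = 24 := by
    rw [← hI.card_plane, hcard]
  rw [hsq, hc1, hc2, hct] at heq
  have hg16 : Nat.card (PX P) % 16 = 8 := by
    have h := (Subgroup.centralizer ({hI.tX} : Set (PX P))).card_mul_index
    rw [hct] at h
    omega
  have hZ : (Nat.card (PX P) : ℤ) * ((Cfsg.charDegree (χ₁ : PX P → ℂ) : ℤ) - δ₁) ^ 2 =
      3072 * (Cfsg.charDegree (χ₁ : PX P → ℂ) : ℤ) * ((Cfsg.charDegree (χ₁ : PX P → ℂ) : ℤ) + δ₁) := by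
    push_cast at heq
    have : ((Nat.card (PX P) : ℤ) : ℚ) * (((Cfsg.charDegree (χ₁ : PX P → ℂ) : ℤ) : ℚ) - (δ₁ : ℚ)) ^ 2 =
        3072 * ((Cfsg.charDegree (χ₁ : PX P → ℂ) : ℤ) : ℚ) *
          (((Cfsg.charDegree (χ₁ : PX P → ℂ) : ℤ) : ℚ) + (δ₁ : ℚ)) := by
      push_cast
      rw [heq]
      ring
    exact_mod_cast this
  exact degree_equation _ δ₁ hδ₁ hdeg (Int.natCast_nonneg _) hg16 hZ

end InvSetting.IsTorus

end Cfsg.Agent.Linear.Mitchell
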