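import Cfsg.Agent.Linear.Mitchell.Cases.Torus

/-!
A torus with a unique involution is inverted by an involution outside it: semidihedral and
quaternion centralisers do not occur.
-/

set_option autoImplicit false

namespace Cfsg.Agent.Linear.Mitchell

open scoped MatrixGroups Matrix commutatorElement
open Cfsg.Geo Matrix

variable {F : Type*} [Field F] [Finite F] {P : Subgroup (GL (Fin 3) F)}

namespace InvSetting.IsTorus

variable {p : ℕ} {hI : InvSetting p P} {T : Subgroup hI.plane} (hT : hI.IsTorus T)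
  (hodd : ¬ 2 ∣ (Subgroup.centralizer ({hI.tX} : Set (PX P))).index)
  (huniq : ∀ x ∈ T, x * x = 1 → x = 1 ∨ x = hI.nn)
include hT hodd huniq

/-- An element of the plane group with trivial square outside the torus exists. -/
theorem exists_involution_outside : ∃ w, w ∉ T ∧ w * w = 1 := by
  haveI : Fact (Nat.Prime 2) := ⟨Nat.prime_two⟩
  obtain ⟨M, -, hM2, hne⟩ := hI.exists_other_involution hodd default
  have h1 : M * M = 1 := by
    rw [← sq]
    exact orderOf_dvd_iff_pow_eq_one.mp (dvd_of_eq hM2)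
  refine ⟨M, fun h => ?_, h1⟩
  rcases huniq M h h1 with e | e
  · rw [e, orderOf_one] at hM2
    exact absurd hM2 (by norm_num)
  · exact hne (congrArg Subtype.val e)

/-- The torus is inverted: no semidihedral Sylow 2-subgroup. -/
theorem inverts {w : hI.plane} (hw : w ∉ T) {x : hI.plane} (hx : x ∈ T) : w * x * w⁻¹ = x⁻¹ := by
  haveI : Fact (Nat.Prime 2) := ⟨Nat.prime_two⟩
  obtain ⟨w₀, hw₀, hw₀2⟩ := hT.exists_involution_outside hodd huniq
  obtain ⟨ε, hS, hε, hsq⟩ := TorusPair.exists_eps hT hw₀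
  by_cases htriv : ∀ z, ε z = 1
  · -- every element outside inverts
    have h0 : ∀ y ∈ T, w₀ * y * w₀⁻¹ = y⁻¹ := fun y hy =>
      eq_inv_of_mul_eq_one_left (by rw [← hε y hy]; exact htriv y)
    have hz := TorusPair.inv_mul_mem hT hw₀ hw
    calc w * x * w⁻¹ = w₀ * ((w₀⁻¹ * w) * x * (w₀⁻¹ * w)⁻¹) * w₀⁻¹ := by group
      _ = w₀ * x * w₀⁻¹ := by
          rw [TorusPair.comm hT _ hz x hx, mul_inv_cancel_right]
      _ = x⁻¹ := h0 x hx
  exfalso
  -- squares outside give the sign
  have hout : ∀ z, z ∉ T → z * z = ε z := fun z hz => by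
    have := hsq _ (TorusPair.inv_mul_mem hT hw₀ hz)
    rwa [mul_inv_cancel_left, hw₀2, mul_one] at this
  have hεnn : ε hI.nn = 1 := by
    rw [hε _ hT.nn_mem, ← hI.nn_comm w₀, mul_inv_cancel_right, hI.nn_mul_self]
  have hεsq : ∀ z, z * z = 1 → ε z = 1 := fun z hz => by
    by_cases hzT : z ∈ T
    · rcases huniq z hzT hz with rfl | rfl
      · exact map_one ε
      · exact hεnn
    · rw [← hout z hzT, hz]
  let R : Sylow 2 hI.plane := default
  obtain ⟨S, hSR⟩ := hI.exists_sylow_map hodd R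
  -- fusion preserves the sign
  have hfus : ∀ x ∈ (R : Subgroup hI.plane), ∀ y ∈ (R : Subgroup hI.plane), ∀ u : PX P,
      u * hI.planeHom x * u⁻¹ = hI.planeHom y → ε x = ε y := by
    intro x hx y _ u hu
    by_cases hx2 : x * x = 1
    · have hy2 : y * y = 1 := hI.planeHom_injective (by
        rw [map_mul, ← hu, map_one, show u * hI.planeHom x * u⁻¹ * (u * hI.planeHom x * u⁻¹) =
          u * hI.planeHom (x * x) * u⁻¹ by rw [map_mul]; group, hx2, map_one, mul_one, mul_inv_cancel])
      rw [hεsq x hx2, hεsq y hy2]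
    obtain ⟨n, hn⟩ := R.isPGroup' ⟨x, hx⟩
    have hn' : x ^ 2 ^ n = 1 := congrArg Subtype.val hn
    obtain ⟨k, -, hk⟩ := (Nat.dvd_prime_pow Nat.prime_two).mp (orderOf_dvd_of_pow_eq_one hn')
    obtain ⟨j, rfl⟩ : ∃ j, k = j + 2 := ⟨k - 2, by
      by_contra h
      apply hx2
      rw [← sq]
      refine orderOf_dvd_iff_pow_eq_one.mp (hk ▸ ?_)
      exact (pow_dvd_pow 2 (show k ≤ 1 by omega)).trans (by norm_num)⟩
    have key : ∀ z : hI.plane, orderOf z = 2 ^ (j + 2) → z ^ 2 ^ (j + 1) = hI.nn := by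
      intro z hz
      have h1 : z ^ 2 ^ (j + 1) ∈ T := by
        rw [pow_succ 2 j, pow_mul, sq]
        by_cases h : z ^ 2 ^ j ∈ T
        · exact T.mul_mem h h
        · exact (Subgroup.mul_mem_iff_of_index_two (TorusPair.idx hT)).mpr Iff.rfl
      refine (huniq _ h1 ?_).resolve_left fun e => ?_
      · rw [← pow_add, ← two_mul, ← pow_succ', ← hz]
        exact pow_orderOf_eq_one z
      · have := Nat.le_of_dvd (by positivity) (hz ▸ orderOf_dvd_of_pow_eq_one e)
        exact absurd this (not_le.mpr (Nat.pow_lt_pow_right one_lt_two (by omega)))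
    have hy : orderOf y = 2 ^ (j + 2) := by
      rw [← orderOf_injective _ hI.planeHom_injective, ← hu, ← hk,
        ← orderOf_injective _ hI.planeHom_injective x]
      exact orderOf_injective (MulAut.conj u).toMonoidHom (MulAut.conj u).injective _
    have hut : u * hI.tX * u⁻¹ = hI.tX := by
      conv_lhs => rw [← hI.planeHom_neg_one, show (⟨-1, hI.neg_one_mem⟩ : hI.plane) = hI.nn from rfl,
        ← key x hk, map_pow, ← conj_pow, hu, ← map_pow, key y hy]
      exact hI.planeHom_neg_one
    obtain ⟨v, hv⟩ : u ∈ hI.planeHom.range := by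
      rw [hI.range_planeHom, Subgroup.mem_centralizer_singleton_iff]
      exact mul_inv_eq_iff_eq_mul.mp hut
    rw [← hv, ← map_inv, ← map_mul, ← map_mul] at hu
    rw [← hI.planeHom_injective hu, map_mul, map_mul, map_inv,
      ← TorusPair.central hT _ (hS x) (ε v), mul_inv_cancel_right]
  have hfoc : (S : Subgroup (PX P)).focalSubgroup ≤ ((R : Subgroup hI.plane) ⊓ ε.ker).map hI.planeHom := by
    rw [Subgroup.focalSubgroup_def, Subgroup.closure_le]
    rintro g ⟨hg, x, hx, u, rfl⟩
    have h1 : u * x⁻¹ * u⁻¹ ∈ (S : Subgroup (PX P)) := by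
      have := mul_mem (inv_mem hx) hg
      simpa [commutatorElement_def, mul_assoc] using this
    rw [hSR] at h1 hx
    obtain ⟨a, ha, rfl⟩ := hx
    obtain ⟨b, hb, hb'⟩ := h1
    refine ⟨a * b, ⟨mul_mem ha hb, ?_⟩, ?_⟩
    · show a * b ∈ ε.ker
      rw [MonoidHom.mem_ker, map_mul]
      rw [← map_inv] at hb'
      rw [← hfus a⁻¹ (inv_mem ha) b hb u hb'.symm, map_inv, mul_inv_cancel]
    · rw [map_mul, hb', commutatorElement_def]
      group
  -- so the Sylow subgroup lies in the kernel
  have hRk : (R : Subgroup hI.plane) ≤ ε.ker := by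
    intro z hz
    have hzS : hI.planeHom z ∈ commutator (PX P) ⊓ (S : Subgroup (PX P)) := by
      refine ⟨?_, hSR ▸ Subgroup.mem_map_of_mem _ hz⟩
      haveI := hI.toSetting.isPerfect
      rw [Group.IsPerfect.commutator_eq_top]
      trivial
    rw [Subgroup.commutator_inf_eq_focalSubgroup] at hzS
    exact ((Subgroup.mem_map_iff_mem hI.planeHom_injective).mp (hfoc hzS)).2
  apply htriv
  intro z
  have hidx : ε.ker.index ∣ 2 := by
    rw [Subgroup.index_ker]
    have hc : Nat.card hI.signs = 2 := by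
      rw [InvSetting.signs, Nat.card_zpowers, hI.orderOf_nn]
    have hle : ε.range ≤ hI.signs := by rintro _ ⟨a, rfl⟩; exact hS a
    exact (Subgroup.card_dvd_of_le hle).trans (dvd_of_eq hc)
  rcases (Nat.dvd_prime Nat.prime_two).mp hidx with e | e
  · exact MonoidHom.mem_ker.mp (Subgroup.index_eq_one.mp e ▸ Subgroup.mem_top z)
  · have h2 := Subgroup.index_dvd_of_le hRk
    rw [e] at h2
    exact absurd h2 R.not_dvd_index

end InvSetting.IsTorus

end Cfsg.Agent.Linear.Mitchell
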