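import Cfsg.Agent.Linear.Mitchell.Cases.OddPart
import Cfsg.Agent.Linear.Mitchell.Cases.SemiDihedral
import Cfsg.Agent.Linear.Dickson.Identify
import Cfsg.Agent.S0508

/-!
A torus with a unique involution: `P` modulo scalars is `PSL₂` over a field of odd order.
-/

set_option autoImplicit false

namespace Cfsg.Agent.Linear.Mitchell

open scoped MatrixGroups Matrix
open Cfsg.Geo Matrix

variable {F : Type*} [Field F] [Finite F] {P : Subgroup (GL (Fin 3) F)}

local notation "M2" => Matrix (Fin 2) (Fin 2) F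
local notation "M3" => Matrix (Fin 3) (Fin 3) F

/-- A 2-group that is commutative with at most one involution is cyclic. -/
theorem isCyclic_of_unique_involution {G : Type*} [Group G] [Finite G] (hG : IsPGroup 2 G)
    (hc : ∀ a b : G, a * b = b * a) (z : G) (hu : ∀ x : G, x * x = 1 → x = 1 ∨ x = z) : IsCyclic G := by
  haveI : Fact (Nat.Prime 2) := ⟨Nat.prime_two⟩
  have huniq : ∀ H K : Subgroup G, Nat.card H = 2 → Nat.card K = 2 → H = K := by
    have key : ∀ H : Subgroup G, Nat.card H = 2 → H = Subgroup.zpowers z := by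
      intro H hH
      obtain ⟨x, hx⟩ := exists_prime_orderOf_dvd_card' (G := H) 2 (by rw [hH])
      have hx2 : (x : G) * x = 1 := by
        rw [← sq, ← Subgroup.coe_pow, orderOf_dvd_iff_pow_eq_one.mp (dvd_of_eq hx), Subgroup.coe_one]
      rcases hu _ hx2 with e | e
      · rw [← Subgroup.orderOf_coe, e, orderOf_one] at hx
        exact absurd hx (by norm_num)
      · refine (Subgroup.eq_of_le_of_card_ge (Subgroup.zpowers_le.mpr (e ▸ x.2)) ?_).symm
        rw [hH, Nat.card_zpowers, ← e, Subgroup.orderOf_coe, hx]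
    exact fun H K hH hK => (key H hH).trans (key K hK).symm
  rcases Cfsg.Agent.S0016.result 2 hG huniq with h | ⟨-, n, ⟨e⟩⟩
  · exact h
  cases n with
  | zero =>
    have hcy : IsCyclic (QuaternionGroup (2 ^ 0)) := by
      rw [pow_zero]
      exact QuaternionGroup.quaternionGroup_one_isCyclic
    exact isCyclic_of_surjective e.symm.toMonoidHom e.symm.surjective
  | succ n =>
    exfalso
    have h := e.symm.injective.eq_iff.mp (show e.symm (QuaternionGroup.a 1 * QuaternionGroup.xa 0) =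
      e.symm (QuaternionGroup.xa 0 * QuaternionGroup.a 1) by rw [map_mul, map_mul]; exact hc _ _)
    rw [QuaternionGroup.a_mul_xa, QuaternionGroup.xa_mul_a, zero_sub, zero_add] at h
    have h2 : ((2 : ℕ) : ZMod (2 * 2 ^ (n + 1))) = 0 := by
      have h1 := QuaternionGroup.xa.injEq (-1 : ZMod (2 * 2 ^ (n + 1))) 1 ▸ h
      push_cast
      linear_combination -h1
    rw [ZMod.natCast_eq_zero_iff] at h2
    have := Nat.le_of_dvd two_pos h2
    have : 2 ≤ 2 ^ (n + 1) := Nat.le_self_pow (by omega) 2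
    omega

namespace InvSetting.IsTorus

variable {p : ℕ} {hI : InvSetting p P} {T : Subgroup hI.plane} (hT : hI.IsTorus T)
  (hodd : ¬ 2 ∣ (Subgroup.centralizer ({hI.tX} : Set (PX P))).index)
  (huniq : ∀ x ∈ T, x * x = 1 → x = 1 ∨ x = hI.nn)
include hT

theorem normalizer_le {Y : Subgroup (PX P)} (hY : Y ≤ hT.oddPart.map hI.planeHom) (hne : Y ≠ ⊥)
    (huniq : ∀ x ∈ T, x * x = 1 → x = 1 ∨ x = hI.nn) :
    Subgroup.normalizer (Y : Set (PX P)) ≤ Subgroup.centralizer ({hI.tX} : Set (PX P)) := by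
  intro g hg
  obtain ⟨y, hy, hy1⟩ := (Subgroup.ne_bot_iff_exists_ne_one.mp hne).elim fun y hy =>
    (⟨(y : PX P), y.2, fun e => hy (Subtype.ext e)⟩ : ∃ y ∈ Y, y ≠ 1)
  obtain ⟨b, hb, rfl⟩ := hY hy
  obtain ⟨b', hb', hbb⟩ := hY ((Subgroup.mem_normalizer_iff.mp hg _).mp hy)
  have hb1 : b ≠ 1 := fun e => hy1 (by rw [e, map_one])
  have hb1' : b' ≠ 1 := fun e => hy1 (conj_eq_one_iff.mp (hbb.symm.trans (by rw [e, map_one])))
  obtain ⟨G, rfl⟩ := px_surjective g
  obtain ⟨h, c, hc, he, hph, -⟩ := hI.exists_lift b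
  obtain ⟨h', c', hc', he', hph', -⟩ := hI.exists_lift b'
  rw [hph, hph', ← map_inv, ← map_mul, ← map_mul, eq_comm, px_eq_iff] at hbb
  obtain ⟨z, hz⟩ := hbb
  set t : P := G * ⟨t0, hI.t0_mem⟩ * G⁻¹ with ht
  have hG : ((G : GL (Fin 3) F) : M3) * ((G⁻¹ : P) : GL (Fin 3) F) = 1 := by
    rw [← Units.val_mul, ← Subgroup.coe_mul, mul_inv_cancel, Subgroup.coe_one, Units.val_one]
  have hG' : (((G⁻¹ : P) : GL (Fin 3) F) : M3) * (G : GL (Fin 3) F) = 1 := by
    rw [← Units.val_mul, ← Subgroup.coe_mul, inv_mul_cancel, Subgroup.coe_one, Units.val_one]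
  simp only [Subgroup.coe_mul, Units.val_mul, he, he', mul_smul_comm, smul_mul_assoc, smul_smul] at hz
  set Gm : M3 := ((G : GL (Fin 3) F) : M3) with hGm
  set Gi : M3 := (((G⁻¹ : P) : GL (Fin 3) F) : M3) with hGi
  have hcomm : blk ((b : GL (Fin 2) F) : M2) * ((t0 : GL (Fin 3) F) : M3) =
      ((t0 : GL (Fin 3) F) : M3) * blk ((b : GL (Fin 2) F) : M2) := by
    rw [t0, emb2_val, ← blk_mul, ← blk_mul]
    simp
  have hz0 : z * c ≠ 0 := fun e => by
    have h2 := congrArg (fun X : M3 => Gi * X * Gm) hz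
    rw [e, zero_smul, mul_zero, zero_mul] at h2
    have h3 : Gi * (c' • blk ((b' : GL (Fin 2) F) : M2)) * Gm = 0 := h2
    have h4 := congrArg (fun X : M3 => Gm * X * Gi) h3
    rw [mul_zero, zero_mul, ← mul_assoc, ← mul_assoc, hG, one_mul, mul_assoc _ Gm, hG, mul_one,
      smul_eq_zero, or_iff_right hc'] at h4
    have := congrFun (congrFun h4 0) 0
    simp [blk] at this
  have hX : blk ((b' : GL (Fin 2) F) : M2) =
      (c'⁻¹ * (z * c)) • (Gm * blk ((b : GL (Fin 2) F) : M2) * Gi) := by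
    rw [← smul_smul, ← hz, smul_smul, inv_mul_cancel₀ hc', one_smul]
  have htc : ((t : GL (Fin 3) F) : M3) * blk ((b' : GL (Fin 2) F) : M2) =
      blk ((b' : GL (Fin 2) F) : M2) * ((t : GL (Fin 3) F) : M3) := by
    simp only [ht, Subgroup.coe_mul, Units.val_mul, ← hGm, ← hGi, hX, mul_smul_comm, smul_mul_assoc]
    congr 1
    calc Gm * ((t0 : GL (Fin 3) F) : M3) * Gi * (Gm * blk ((b : GL (Fin 2) F) : M2) * Gi)
        = Gm * (((t0 : GL (Fin 3) F) : M3) * ((Gi * Gm) * blk ((b : GL (Fin 2) F) : M2))) * Gi := by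
          simp only [mul_assoc]
      _ = Gm * ((blk ((b : GL (Fin 2) F) : M2) * (Gi * Gm)) * ((t0 : GL (Fin 3) F) : M3)) * Gi := by
          rw [hG', one_mul, mul_one, hcomm]
      _ = _ := by simp only [mul_assoc]
  obtain ⟨hh, hTm⟩ := hT.mem_torus_of_commute ((hT.mem_oddPart).mp hb') hb1' htc
  have ht2 : t * t = 1 := by
    rw [ht, show (⟨t0, hI.t0_mem⟩ : P) = (⟨t0, hI.t0_mem⟩ : P) from rfl]
    calc G * ⟨t0, hI.t0_mem⟩ * G⁻¹ * (G * ⟨t0, hI.t0_mem⟩ * G⁻¹)
        = G * (⟨t0, hI.t0_mem⟩ * ⟨t0, hI.t0_mem⟩) * G⁻¹ := by group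
      _ = 1 := by
        rw [show (⟨t0, hI.t0_mem⟩ : P) * ⟨t0, hI.t0_mem⟩ = 1 from Subtype.ext t0_mul_self]; group
  have hsq : (⟨hI.psi ⟨t, hh⟩, ⟨t, hh⟩, rfl⟩ : hI.plane) * ⟨hI.psi ⟨t, hh⟩, ⟨t, hh⟩, rfl⟩ = 1 := by
    refine Subtype.ext ?_
    show hI.psi ⟨t, hh⟩ * hI.psi ⟨t, hh⟩ = 1
    have e2 : (t : GL (Fin 3) F) * (t : GL (Fin 3) F) = 1 := congrArg Subtype.val ht2
    rw [← map_mul, show (⟨t, hh⟩ : cen0 P) * ⟨t, hh⟩ = 1 from Subtype.ext e2, map_one]
  have hpx : hI.planeHom ⟨hI.psi ⟨t, hh⟩, ⟨t, hh⟩, rfl⟩ = px P G * hI.tX * (px P G)⁻¹ := by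
    rw [hI.planeHom_psi ⟨t, hh⟩, InvSetting.tX, ← map_inv, ← map_mul, ← map_mul]
  rcases huniq _ hTm hsq with e | e
  · rw [e, map_one, eq_comm, conj_eq_one_iff] at hpx
    have := hI.orderOf_tX
    rw [hpx, orderOf_one] at this
    exact absurd this (by norm_num)
  · rw [e, show hI.planeHom hI.nn = hI.tX from hI.planeHom_neg_one] at hpx
    rw [Subgroup.mem_centralizer_singleton_iff]
    exact mul_inv_eq_iff_eq_mul.mp hpx.symm

include hodd huniq

/-- A torus with a unique involution gives `PSL₂` of odd characteristic. -/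
theorem exists_psl_two : ∃ (K : Type) (_ : Field K) (_ : Fintype K), Odd (Fintype.card K) ∧
    Nonempty (PX P ≃* Matrix.ProjectiveSpecialLinearGroup (Fin 2) K) := by
  haveI : Fact (Nat.Prime 2) := ⟨Nat.prime_two⟩
  haveI := hI.toSetting.simple
  obtain ⟨w, hw, hw2⟩ := hT.exists_involution_outside hodd huniq
  have hinv := fun {v} (hv : v ∉ T) {x} (hx : x ∈ T) => hT.inverts hodd huniq hv hx
  obtain ⟨R, hR⟩ := (IsPGroup.of_card (n := 1) (p := 2) (G := Subgroup.zpowers w) (by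
    rw [Nat.card_zpowers, pow_one]
    exact orderOf_eq_prime (by rw [sq, hw2]) fun e => hw (e ▸ T.one_mem))).exists_le_sylow
  have hwR : w ∈ (R : Subgroup hI.plane) := hR (Subgroup.mem_zpowers w)
  have hnnR : hI.nn ∈ (R : Subgroup hI.plane) := by
    have hn : (hI.signs).Normal := ⟨fun s hs g => by
      rw [← TorusPair.central hT s hs g, mul_inv_cancel_right]; exact hs⟩
    have hp : IsPGroup 2 hI.signs := IsPGroup.of_card (n := 1) (by
      rw [InvSetting.signs, Nat.card_zpowers, hI.orderOf_nn, pow_one])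
    haveI := hn
    exact hp.le_sylow_of_normal R (hI.mem_signs.mpr (Or.inr rfl))
  obtain ⟨S, hS⟩ := hI.exists_sylow_map hodd R
  set A := T.subgroupOf (R : Subgroup hI.plane) with hA
  have hAidx : A.index = 2 := by
    rw [Subgroup.index_eq_two_iff]
    refine ⟨⟨w, hwR⟩, fun b => ?_⟩
    simp only [hA, Subgroup.mem_subgroupOf, Subgroup.coe_mul]
    by_cases hb : (b : hI.plane) ∈ T
    · exact Or.inr ⟨hb, fun h => hw ((T.mul_mem_cancel_left hb).mp h)⟩
    · exact Or.inl ⟨(Subgroup.mul_mem_iff_of_index_two (TorusPair.idx hT)).mpr (by simp [hb, hw]), hb⟩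
  haveI hAc : IsCyclic A := isCyclic_of_unique_involution (R.isPGroup'.to_subgroup A)
    (fun a b => Subtype.ext (Subtype.ext (TorusPair.comm hT _ a.2 _ b.2)))
    ⟨⟨hI.nn, hnnR⟩, hT.nn_mem⟩ fun x hx => by
      rcases huniq _ x.2 (congrArg (fun a : A => ((a : (R : Subgroup hI.plane)) : hI.plane)) hx) with e | e
      · exact Or.inl (Subtype.ext (Subtype.ext e))
      · exact Or.inr (Subtype.ext (Subtype.ext e))
  have hcard : Nat.card (R : Subgroup hI.plane) = 2 * Nat.card A := by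
    rw [← A.card_mul_index, hAidx, mul_comm]
  obtain ⟨eD⟩ := Linear.Dickson.iso_dihedral_of_inverter A hcard (w := ⟨w, hwR⟩) (fun h => hw h)
    (Subtype.ext hw2) fun y hy => Subtype.ext (hinv hw hy)
  have hn : 2 ≤ Nat.card A := by
    have := Subgroup.card_dvd_of_le (show Subgroup.zpowers ⟨hI.nn, hnnR⟩ ≤ A from
      Subgroup.zpowers_le.mpr hT.nn_mem)
    rw [Nat.card_zpowers, ← Subgroup.orderOf_coe, hI.orderOf_nn] at this
    exact Nat.le_of_dvd Nat.card_pos this
  have htS : hI.tX ∈ (S : Subgroup (PX P)) := by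
    rw [hS, ← hI.planeHom_neg_one]
    exact Subgroup.mem_map_of_mem _ hnnR
  refine Cfsg.Agent.S0508.result S (Nat.card A) hn ?_ hI.tX hI.orderOf_tX htS ?_
    (hT.oddPart.map hI.planeHom) hT.map_oddCore.symm (fun hO => ?_) ?_ fun Y hY hne => ?_
  · exact ⟨((MulEquiv.subgroupCongr hS).trans
      (Subgroup.equivMapOfInjective _ _ hI.planeHom_injective).symm).trans eD⟩
  · intro s hs
    rw [hS] at hs
    obtain ⟨a, -, rfl⟩ := hs
    exact Subgroup.mem_centralizer_singleton_iff.mp (hI.range_planeHom ▸ ⟨a, rfl⟩)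
  · have hcen : (S : Subgroup (PX P)) ⊓
        Subgroup.centralizer ((hT.oddPart.map hI.planeHom : Subgroup (PX P)) : Set (PX P)) =
          (A.map (R : Subgroup hI.plane).subtype).map hI.planeHom := by
      refine le_antisymm ?_ ?_
      · rintro x ⟨hx, hxc⟩
        rw [SetLike.mem_coe, hS] at hx
        obtain ⟨a, ha, rfl⟩ := hx
        refine ⟨a, ⟨⟨a, ha⟩, ?_, rfl⟩, rfl⟩
        by_contra haT
        obtain ⟨⟨z, hz⟩, hz1⟩ := Subgroup.ne_bot_iff_exists_ne_one.mp hO
        obtain ⟨o, ho, rfl⟩ := hz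
        have ho' := hT.mem_oddPart.mp ho
        have h1 := hI.planeHom_injective ((map_mul _ _ _).trans
          ((Subgroup.mem_centralizer_iff.mp hxc _ ⟨o, ho, rfl⟩).trans (map_mul _ _ _).symm))
        have h2 := hT.invert_of_odd ho' haT
        simp only [Subgroup.coe_subtype] at h2
        rw [← h1, mul_inv_cancel_right] at h2
        have : orderOf o ∣ 2 := orderOf_dvd_of_pow_eq_one (by
          rw [sq]; nth_rewrite 2 [h2]; exact mul_inv_cancel o)
        rcases (Nat.dvd_prime Nat.prime_two).mp this with e | e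
        · exact hz1 (Subtype.ext ((congrArg hI.planeHom (orderOf_eq_one_iff.mp e)).trans (map_one _)))
        · rw [e] at ho'; exact absurd ho' (by decide)
      · rintro _ ⟨a, ⟨a', ha', rfl⟩, rfl⟩
        refine ⟨?_, Subgroup.mem_centralizer_iff.mpr ?_⟩
        · rw [SetLike.mem_coe, hS]; exact ⟨_, a'.2, rfl⟩
        · rintro _ ⟨o, ho, rfl⟩
          rw [← map_mul, ← map_mul]
          exact congrArg _ (TorusPair.comm hT o ho.1 _ ha')
    rw [hcen]
    refine ⟨?_, ?_⟩
    · exact isCyclic_of_surjective ((A.equivMapOfInjective _ (R : Subgroup hI.plane).subtype_injective).trans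
        (Subgroup.equivMapOfInjective _ _ hI.planeHom_injective)).toMonoidHom (MulEquiv.surjective _)
    · rw [hS, Subgroup.relIndex_map_map_of_injective _ _ hI.planeHom_injective]
      rw [Subgroup.relIndex, Subgroup.subgroupOf,
        Subgroup.comap_map_eq_self_of_injective (R : Subgroup hI.plane).subtype_injective]
      exact hAidx
  · intro s hs hsc y hy
    rw [hS] at hs
    obtain ⟨a, ha, rfl⟩ := hs
    obtain ⟨o, ho, rfl⟩ := hy
    rw [← map_inv, ← map_mul, ← map_mul, ← map_inv]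
    refine congrArg _ (hT.invert_of_odd (hT.mem_oddPart.mp ho) fun haT => hsc ?_)
    rw [Subgroup.mem_centralizer_iff]
    rintro _ ⟨o', ho', rfl⟩
    rw [← map_mul, ← map_mul]
    exact congrArg _ (TorusPair.comm hT o' ho'.1 a haT)
  · exact hT.normalizer_le hY hne huniq

end InvSetting.IsTorus

end Cfsg.Agent.Linear.Mitchell
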