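import Cfsg.Agent.Linear.Mitchell.Centraliser.Recognise

/-!
Cyclic and alternating plane groups.
-/

set_option autoImplicit false

namespace Cfsg.Agent.Linear.Mitchell

open scoped MatrixGroups Matrix commutatorElement
open Cfsg.Geo Matrix Cfsg.Agent.Linear

variable {F : Type*} [Field F] {P : Subgroup (GL (Fin 3) F)}

local notation "M2" => Matrix (Fin 2) (Fin 2) F

set_option maxRecDepth 100000 in
theorem altFour_two_element : ∀ x : alternatingGroup (Fin 4), x * x * (x * x) = 1 →
    ∃ a b : alternatingGroup (Fin 4), ⁅a, b⁆ = x := by decide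

theorem hom_altFive_eq_one {A : Type*} [CommGroup A] (h : alternatingGroup (Fin 5) →* A)
    (x : alternatingGroup (Fin 5)) : h x = 1 := by
  have hc : commutator (alternatingGroup (Fin 5)) = ⊤ := commutator_alternatingGroup_eq_top (by simp)
  exact MonoidHom.mem_ker.mp (Abelianization.commutator_subset_ker h (hc ▸ Subgroup.mem_top x))

theorem hom_altFour_eq_one {A : Type*} [CommGroup A] (h : alternatingGroup (Fin 4) →* A)
    (x : alternatingGroup (Fin 4)) {k : ℕ} (hx : x ^ (2 ^ k) = 1) : h x = 1 := by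
  haveI : Fact (Nat.Prime 2) := ⟨Nat.prime_two⟩
  have h4 : x * x * (x * x) = 1 := by
    have hd : orderOf x ∣ Nat.gcd (2 ^ k) 12 := Nat.dvd_gcd (orderOf_dvd_of_pow_eq_one hx)
      (by have h12 : Nat.card (alternatingGroup (Fin 4)) = 12 := by
            rw [nat_card_alternatingGroup, Nat.card_eq_fintype_card, Fintype.card_fin]; rfl
          exact h12 ▸ orderOf_dvd_natCard x)
    have hg : Nat.gcd (2 ^ k) 12 ∣ 4 := by
      obtain ⟨j, -, hj⟩ := (Nat.dvd_prime_pow Nat.prime_two).mp (Nat.gcd_dvd_left (2 ^ k) 12)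
      have h12 : 2 ^ j ∣ 12 := hj ▸ Nat.gcd_dvd_right (2 ^ k) 12
      rw [hj]
      rcases Nat.lt_or_ge j 3 with h | h
      · interval_cases j <;> decide
      · have : 2 ^ 3 ∣ 12 := (pow_dvd_pow 2 h).trans h12
        norm_num at this
    have := orderOf_dvd_iff_pow_eq_one.mp (hd.trans hg)
    rw [← this]
    simp [pow_succ, mul_assoc]
  obtain ⟨a, b, rfl⟩ := altFour_two_element x h4
  rw [map_commutatorElement, commutatorElement_eq_one_iff_mul_comm]
  exact mul_comm _ _

namespace InvSetting

variable {p : ℕ} (hI : InvSetting p P) {Q : Type} [Group Q] {f : hI.plane →* Q}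
  (hf : ∀ M : hI.plane, f M = 1 ↔ (M : GL (Fin 2) F) = 1 ∨ (M : GL (Fin 2) F) = -1)
include hI hf

/-- A cyclic image gives an abelian plane group. -/
theorem comm_of_cyclic [IsCyclic Q] (a b : hI.plane) : a * b = b * a := by
  refine commutative_of_cyclic_center_quotient f (fun M hM => ?_) a b
  rw [Subgroup.mem_center_iff]
  intro g
  rcases (hf M).mp (MonoidHom.mem_ker.mp hM) with h | h <;>
    exact Subtype.ext (by simp [h])

variable [Finite F] (hodd : ¬ 2 ∣ (Subgroup.centralizer ({hI.tX} : Set (PX P))).index)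
include hodd

/-- The image cannot kill the determinant of all 2-elements. -/
theorem false_of_two_perfect (hs : Function.Surjective f)
    (h : ∀ g : Q →* Fˣ, ∀ (x : Q) (k : ℕ), x ^ (2 ^ k) = 1 → g x = 1) : False := by
  haveI : Fact (Nat.Prime 2) := ⟨Nat.prime_two⟩
  let d : hI.plane →* Fˣ := Matrix.GeneralLinearGroup.det.comp hI.plane.subtype
  have hker : f.ker ≤ d.ker := by
    intro M hM
    rw [MonoidHom.mem_ker] at hM ⊢
    refine Units.ext ?_
    show ((M : GL (Fin 2) F) : M2).det = 1
    rcases (hf M).mp hM with e | e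
    · rw [e, Units.val_one, Matrix.det_one]
    · rw [e, Units.val_neg, Units.val_one, Matrix.det_neg, Matrix.det_one, Fintype.card_fin]
      norm_num
  let g : Q →* Fˣ := f.liftOfSurjective hs ⟨d, hker⟩
  have hg : ∀ M, g (f M) = d M := f.liftOfRightInverse_comp_apply _ _ ⟨d, hker⟩
  let R : Sylow 2 hI.plane := default
  obtain ⟨M, hM, hM2, hne⟩ := hI.exists_other_involution hodd R
  obtain ⟨k, hk⟩ := R.isPGroup' ⟨M, hM⟩
  have hdet : ((M : GL (Fin 2) F) : M2).det = 1 := by
    have := h g (f M) k (by rw [← map_pow, show M ^ 2 ^ k = 1 from congrArg Subtype.val hk, map_one])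
    rw [hg] at this
    exact congrArg Units.val this
  have hsq : ((M : GL (Fin 2) F) : M2) * (M : GL (Fin 2) F) = 1 := by
    have h1 : M * M = 1 := by
      rw [← sq]
      exact orderOf_dvd_iff_pow_eq_one.mp (dvd_of_eq hM2)
    rw [← Units.val_mul, ← Subgroup.coe_mul, h1, Subgroup.coe_one, Units.val_one]
  by_cases hs' : IsScalarTwo ((M : GL (Fin 2) F) : M2)
  · rcases (hI.isScalarTwo_plane M.2).mp hs' with e | e
    · rw [show M = 1 from Subtype.ext e, orderOf_one] at hM2
      exact absurd hM2 (by norm_num)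
    · exact hne e
  · have ht := trace_eq_zero_of_sq_scalar hs' (c := 1) (by rw [one_smul]; exact hsq)
    have h00 := congrFun (congrFun hsq 0) 0
    simp [Matrix.mul_apply, Fin.sum_univ_two] at h00
    rw [Matrix.det_fin_two] at hdet
    rw [Matrix.trace_fin_two] at ht
    exact hI.two (by linear_combination (((M : GL (Fin 2) F) : M2) 0 0) * ht - hdet - h00)

end InvSetting

end Cfsg.Agent.Linear.Mitchell
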