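import Cfsg.Agent.Linear.Mitchell.Cases.KleinOrder
import Cfsg.Agent.Linear.Mitchell.Cases.PlainDihedral
import Cfsg.Agent.Linear.Mitchell.Cases.Small

/-!
The centraliser of a central involution: the cases.
-/

set_option autoImplicit false

namespace Cfsg.Agent.Linear.Mitchell

open scoped MatrixGroups Matrix
open Cfsg.Geo Matrix

variable {F : Type*} [Field F] [Finite F] {P : Subgroup (GL (Fin 3) F)}

namespace InvSetting

variable {p : ℕ} (hI : InvSetting p P)

/-- The plane group is `S₄` modulo signs. -/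
def IsOctahedral : Prop :=
  ∃ (Q : Type) (_ : Group Q) (f : hI.plane →* Q), Function.Surjective f ∧
    (∀ M : hI.plane, f M = 1 ↔ (M : GL (Fin 2) F) = 1 ∨ (M : GL (Fin 2) F) = -1) ∧
    Nonempty (Q ≃* Equiv.Perm (Fin 4))

/-- The possibilities for an involution whose centraliser has odd index. -/
theorem cases_of_odd (hodd : ¬ 2 ∣ (Subgroup.centralizer ({hI.tX} : Set (PX P))).index) :
    (∀ a b : hI.plane, a * b = b * a) ∨
    (projCard P = 168 ∨ projCard P = 360 ∨ ((projCard P = 2520 ∨ projCard P = 3672) ∧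
      Nat.card (Subgroup.centralizer ({hI.tX} : Set (PX P))) = 24)) ∨
    (∃ (K : Type) (_ : Field K) (_ : Fintype K), Odd (Fintype.card K) ∧
      Nonempty (PX P ≃* Matrix.ProjectiveSpecialLinearGroup (Fin 2) K)) ∨
    hI.IsOctahedral := by
  haveI : Fintype F := Fintype.ofFinite F
  obtain ⟨Q, _, _, f, hs, hf, hQ⟩ := hI.exists_planeQuot
  rcases hQ with hcyc | ⟨A, hA, hidx, hout⟩ | ⟨⟨e⟩⟩ | ⟨⟨e⟩⟩ | ⟨⟨e⟩⟩
  · haveI := hcyc
    exact Or.inl (hI.comm_of_cyclic hf)
  · have hT := hI.isTorus_comap hs hf hA hidx hout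
    by_cases huniq : ∀ x ∈ A.comap f, x * x = 1 → x = 1 ∨ x = hI.nn
    · exact Or.inr (Or.inr (Or.inl (IsTorus.exists_psl_two hT hodd huniq)))
    · push Not at huniq
      obtain ⟨t', hmem, hsq, hne, hnn⟩ := huniq
      exact Or.inr (Or.inl (IsTorus.Second.card_cases (hT := hT) ⟨hmem, hsq, hne, hnn⟩ hodd))
  · exfalso
    refine hI.false_of_two_perfect hf hodd hs fun g x k hx => ?_
    have := hom_altFour_eq_one (g.comp e.symm.toMonoidHom) (e x) (k := k) (by rw [← map_pow, hx, map_one])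
    simpa using this
  · exact Or.inr (Or.inr (Or.inr ⟨Q, inferInstance, f, hs, hf, ⟨e⟩⟩))
  · exfalso
    refine hI.false_of_two_perfect hf hodd hs fun g x k _ => ?_
    have := hom_altFive_eq_one (g.comp e.symm.toMonoidHom) (e x)
    simpa using this

end InvSetting

end Cfsg.Agent.Linear.Mitchell
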