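import Cfsg.Agent.Linear.Mitchell.Cases.Main
import Cfsg.Agent.S3304

/-!
The octahedral branch: the centraliser of the involution is `GL₂(3)`.
-/

set_option autoImplicit false

namespace Cfsg.Agent.Linear.Mitchell

open scoped MatrixGroups Matrix
open Cfsg.Geo Matrix

local notation "S4" => Equiv.Perm (Fin 4)

/-- The four-group of `S₄`. -/
def kleinFour : Subgroup (Equiv.Perm (Fin 4)) where
  carrier := {x | x = 1 ∨ S3304.Dbl x}
  mul_mem' := by
    intro a b ha hb
    have key : ∀ a b : S4, (a = 1 ∨ S3304.Dbl a) → (b = 1 ∨ S3304.Dbl b) →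
        (a * b = 1 ∨ S3304.Dbl (a * b)) := by decide +kernel
    exact key a b ha hb
  one_mem' := Or.inl rfl
  inv_mem' := by
    intro a ha
    have key : ∀ a : S4, (a = 1 ∨ S3304.Dbl a) → (a⁻¹ = 1 ∨ S3304.Dbl a⁻¹) := by decide +kernel
    exact key a ha

theorem mem_kleinFour {x : S4} : x ∈ kleinFour ↔ x = 1 ∨ S3304.Dbl x := Iff.rfl

theorem card_kleinFour : Nat.card kleinFour = 4 := by
  rw [show Nat.card kleinFour = Nat.card {x : S4 // x = 1 ∨ S3304.Dbl x} from rfl, Nat.card_eq_fintype_card]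
  decide +kernel

variable {F : Type*} [Field F] [Finite F] {P : Subgroup (GL (Fin 3) F)}

namespace InvSetting

variable {p : ℕ} (hI : InvSetting p P)

/-- The centraliser of the involution in the octahedral case. -/
theorem iso_of_isOctahedral (hodd : ¬ 2 ∣ (Subgroup.centralizer ({hI.tX} : Set (PX P))).index)
    (h : hI.IsOctahedral) :
    Nonempty (Subgroup.centralizer ({hI.tX} : Set (PX P)) ≃* GL (Fin 2) (ZMod 3)) := by
  classical
  obtain ⟨Q, _, f, hs, hf, ⟨e⟩⟩ := h
  let φ : hI.plane →* S4 := e.toMonoidHom.comp f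
  have hφs : Function.Surjective φ := e.surjective.comp hs
  have hker : ∀ x, φ x = 1 ↔ x = 1 ∨ x = hI.nn := fun x => by
    rw [show φ x = e (f x) from rfl, e.map_eq_one_iff, hf]
    exact or_congr ⟨fun h => Subtype.ext h, fun h => congrArg Subtype.val h⟩
      ⟨fun h => Subtype.ext h, fun h => congrArg Subtype.val h⟩
  -- lifts of commuting involutions do not commute
  have hK : ∀ M N : hI.plane, φ M ≠ 1 → φ M * φ M = 1 → φ N ≠ 1 → φ N * φ N = 1 → φ M ≠ φ N →
      M * N ≠ N * M := by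
    intro M N hM hM2 hN hN2 hne hc
    refine hne (congrArg e (hI.image_eq_of_commute hf (fun h => hM ?_) ?_ (fun h => hN ?_) ?_ hc))
    · show e (f M) = 1; rw [h, map_one]
    · exact e.injective (by rw [map_mul, map_one]; exact hM2)
    · show e (f N) = 1; rw [h, map_one]
    · exact e.injective (by rw [map_mul, map_one]; exact hN2)
  have hconj : ∀ a b : S4, S3304.Dbl a → S3304.Dbl b → ∃ g : S4, g * a * g⁻¹ = b := by decide +kernel
  have hother : ∀ a : S4, S3304.Dbl a → ∃ b, S3304.Dbl b ∧ b ≠ a ∧ S3304.Dbl (a * b) := by decide +kernel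
  have hD1 : ∀ a : S4, S3304.Dbl a → a ≠ 1 ∧ a * a = 1 := by decide +kernel
  -- lifts of double transpositions square to `-1`
  have hsq : ∀ x, S3304.Dbl (φ x) → x * x = hI.nn := by
    intro x hx
    refine ((hker _).mp (by rw [map_mul, (hD1 _ hx).2])).resolve_left fun h1 => ?_
    have hall : ∀ y, S3304.Dbl (φ y) → y * y = 1 := by
      intro y hy
      obtain ⟨g, hg⟩ := hconj _ _ hx hy
      obtain ⟨G, rfl⟩ := hφs g
      have hg' : φ ((G * x * G⁻¹)⁻¹ * y) = 1 := by
        rw [map_mul, map_inv, map_mul, map_mul, map_inv, hg, inv_mul_cancel]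
      have hc1 : (G * x * G⁻¹) * (G * x * G⁻¹) = 1 := by
        rw [show G * x * G⁻¹ * (G * x * G⁻¹) = G * (x * x) * G⁻¹ by group, h1, mul_one, mul_inv_cancel]
      rcases (hker _).mp hg' with e' | e' <;> rw [inv_mul_eq_iff_eq_mul] at e'
      · rw [e', mul_one, hc1]
      · rw [e', mul_assoc, ← mul_assoc hI.nn, hI.nn_comm, mul_assoc (G * x * G⁻¹) hI.nn hI.nn, hI.nn_mul_self,
          mul_one, hc1]
    obtain ⟨b, hb, hbne, hab⟩ := hother _ hx
    obtain ⟨y, rfl⟩ := hφs b
    have h2 := hall (x * y) (by rw [map_mul]; exact hab)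
    refine hK x y (hD1 _ hx).1 (hD1 _ hx).2 (hD1 _ hb).1 (hD1 _ hb).2 (Ne.symm hbne) ?_
    calc x * y = (x * y)⁻¹ := (inv_eq_of_mul_eq_one_right h2).symm
      _ = y * x := by
        rw [_root_.mul_inv_rev, inv_eq_of_mul_eq_one_right h1, inv_eq_of_mul_eq_one_right (hall y hb)]
  -- the quaternion group
  obtain ⟨a, b, hab, ha, hb⟩ : ∃ a b : S4, a ≠ b ∧ S3304.Dbl a ∧ S3304.Dbl b := by decide +kernel
  obtain ⟨x, rfl⟩ := hφs a
  obtain ⟨y, rfl⟩ := hφs b
  have hxy : S3304.Dbl (φ (x * y)) := by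
    have key : ∀ a b : S4, a ≠ b → S3304.Dbl a → S3304.Dbl b → S3304.Dbl (a * b) := by decide +kernel
    rw [map_mul]; exact key _ _ hab ha hb
  have hx2 := hsq x ha
  have hy2 := hsq y hb
  have hinv : y * x * y⁻¹ = x⁻¹ := by
    have h1 : x * y * (x * y) = x * x := (hsq _ hxy).trans hx2.symm
    have h2 : y * x * y = x := mul_left_cancel (a := x) (by rw [← h1]; group)
    have h3 : y * x = x * y⁻¹ := by rw [eq_mul_inv_iff_mul_eq]; exact h2
    have h4 : y⁻¹ * y⁻¹ = hI.nn := by
      rw [← _root_.mul_inv_rev, hy2]; exact inv_eq_of_mul_eq_one_right hI.nn_mul_self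
    rw [h3, mul_assoc, h4, ← hI.nn_comm, eq_inv_iff_mul_eq_one, mul_assoc, hx2, hI.nn_mul_self]
  let q : QuaternionGroup 2 →* hI.plane := H25.quaternionHom x y
    (by rw [show (4 : ℕ) = 2 + 2 from rfl, pow_add, sq, hx2, hI.nn_mul_self]) (by rw [sq, sq, hx2, hy2]) hinv
  set N : Subgroup hI.plane := kleinFour.comap φ with hN
  have hkerc : Nat.card φ.ker = 2 := by
    have : φ.ker = hI.signs := Subgroup.ext fun z => by rw [MonoidHom.mem_ker, hker, hI.mem_signs]
    rw [this, InvSetting.signs, Nat.card_zpowers, hI.orderOf_nn]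
  have hplane : Nat.card hI.plane = 48 := by
    rw [← φ.ker.card_mul_index, hkerc, Subgroup.index_ker, MonoidHom.range_eq_top.mpr hφs, Subgroup.card_top,
      Nat.card_perm, Nat.card_fin]
    rfl
  have hNc : Nat.card N = 8 := by
    have h1 : N.index = kleinFour.index := Subgroup.index_comap_of_surjective _ hφs
    have h2 := kleinFour.card_mul_index
    rw [card_kleinFour, Nat.card_perm, Nat.card_fin] at h2
    have h3 := N.card_mul_index
    rw [h1, hplane] at h3
    simp [Nat.factorial] at h2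
    have h6 : kleinFour.index = 6 := by omega
    rw [h6] at h3
    omega
  have hxq : x ∈ q.range := ⟨QuaternionGroup.a 1, by
    show x ^ (1 : ZMod (2 * 2)).val = x
    rw [show (1 : ZMod (2 * 2)).val = 1 from rfl, pow_one]⟩
  have hyq : y ∈ q.range := ⟨QuaternionGroup.xa 0, by
    show y * x ^ (0 : ZMod (2 * 2)).val = y
    rw [ZMod.val_zero, pow_zero, mul_one]⟩
  have hnq : hI.nn ∈ q.range := hx2 ▸ mul_mem hxq hxq
  have hle : N ≤ q.range := by
    intro z hz
    have key : ∀ a b c : S4, a ≠ b → S3304.Dbl a → S3304.Dbl b → (c = 1 ∨ S3304.Dbl c) →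
        c = 1 ∨ c = a ∨ c = b ∨ c = a * b := by decide +kernel
    obtain ⟨w, hw, hwz⟩ : ∃ w ∈ q.range, φ w = φ z := by
      rcases key _ _ _ hab ha hb (mem_kleinFour.mp hz) with h | h | h | h
      · exact ⟨1, one_mem _, by rw [map_one, h]⟩
      · exact ⟨x, hxq, h.symm⟩
      · exact ⟨y, hyq, h.symm⟩
      · exact ⟨x * y, mul_mem hxq hyq, by rw [map_mul, h]⟩
    rcases (hker (w⁻¹ * z)).mp (by rw [map_mul, map_inv, hwz, inv_mul_cancel]) with e' | e' <;>
      rw [inv_mul_eq_iff_eq_mul] at e' <;> rw [e']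
    · simpa using hw
    · exact mul_mem hw hnq
  have hqc : Nat.card (QuaternionGroup 2) = 8 := by rw [Nat.card_eq_fintype_card, QuaternionGroup.card]
  have heq : N = q.range := Subgroup.eq_of_le_of_card_ge hle (by
    rw [hNc, ← hqc]
    exact Nat.card_le_card_of_surjective _ q.rangeRestrict_surjective)
  have hqinj : Function.Injective q := by
    have hb : Function.Bijective q.rangeRestrict :=
      (Nat.bijective_iff_surjective_and_card _).mpr ⟨q.rangeRestrict_surjective, by rw [hqc, ← heq, hNc]⟩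
    exact fun u v h => hb.1 (Subtype.ext h)
  let e₀ : N ≃* QuaternionGroup 2 := (MulEquiv.subgroupCongr heq).trans (MonoidHom.ofInjective hqinj).symm
  haveI hKn : kleinFour.Normal := ⟨fun c hc g => by
    have key : ∀ c g : S4, (c = 1 ∨ S3304.Dbl c) → (g * c * g⁻¹ = 1 ∨ S3304.Dbl (g * c * g⁻¹)) := by
      decide +kernel
    exact key c g hc⟩
  haveI : N.Normal := Subgroup.Normal.comap hKn φ
  have hC : Subgroup.centralizer (N : Set hI.plane) ≤ N := by
    intro g hg
    have key : ∀ g a b : S4, a ≠ b → S3304.Dbl a → S3304.Dbl b → g * a = a * g → g * b = b * g →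
        g = 1 ∨ S3304.Dbl g := by decide +kernel
    refine mem_kleinFour.mpr (key _ _ _ hab ha hb ?_ ?_) <;> rw [← map_mul, ← map_mul]
    · rw [Subgroup.mem_centralizer_iff.mp hg x (mem_kleinFour.mpr (Or.inr ha))]
    · rw [Subgroup.mem_centralizer_iff.mp hg y (mem_kleinFour.mpr (Or.inr hb))]
  -- an involution outside
  haveI : Fact (Nat.Prime 2) := ⟨Nat.prime_two⟩
  obtain ⟨t, -, ht2, htne⟩ := hI.exists_other_involution hodd (default : Sylow 2 hI.plane)
  have htt : t * t = 1 := by
    have := pow_orderOf_eq_one t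
    rwa [ht2, sq] at this
  have htN : t ∉ N := by
    intro ht
    rcases mem_kleinFour.mp ht with h | h
    · rcases (hker t).mp h with rfl | rfl
      · rw [orderOf_one] at ht2; exact absurd ht2 (by norm_num)
      · exact htne hI.nn_val
    · exact hI.nn_ne_one ((hsq t h).symm.trans htt)
  obtain ⟨i₁⟩ := S3304.iso_model hplane hC e₀ htt htN
  obtain ⟨i₂⟩ := S3304.gl_model
  exact ⟨hI.cenIso.trans (i₁.trans i₂.symm)⟩

end InvSetting

end Cfsg.Agent.Linear.Mitchell
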