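import Cfsg.Agent.Linear.Mitchell.Cases.Torus
import Cfsg.Prelude.Def_CaseTheorems

/-!
The odd part of the torus: the odd core of the centraliser, and its centralisers in `P`.
-/

set_option autoImplicit false

namespace Cfsg.Agent.Linear.Mitchell

open scoped MatrixGroups Matrix
open Cfsg.Geo Matrix

variable {F : Type*} [Field F] [Finite F] {P : Subgroup (GL (Fin 3) F)}

local notation "M2" => Matrix (Fin 2) (Fin 2) F
local notation "M3" => Matrix (Fin 3) (Fin 3) F

namespace InvSetting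

variable {p : ℕ} (hI : InvSetting p P)
include hI

omit [Finite F] in
theorem planeHom_psi (h : cen0 P) :
    hI.planeHom ⟨hI.psi h, h, rfl⟩ = px P ⟨(h : GL (Fin 3) F), h.2.1⟩ := by
  have e : hI.cenIso (hI.toCen h) = ⟨hI.psi h, h, rfl⟩ := Subtype.ext (hI.cenIso_toCen h)
  rw [← e]
  show ((hI.cenIso.symm (hI.cenIso (hI.toCen h))) : PX P) = _
  rw [MulEquiv.symm_apply_apply]
  rfl

omit [Finite F] in
/-- A plane element lifts to `P` as a scalar multiple of its block matrix. -/
theorem exists_lift (b : hI.plane) : ∃ (h : P) (c : F), c ≠ 0 ∧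
    ((h : GL (Fin 3) F) : M3) = c • blk ((b : GL (Fin 2) F) : M2) ∧ hI.planeHom b = px P h ∧
    c ^ 3 * ((b : GL (Fin 2) F) : M2).det = 1 := by
  obtain ⟨b, h, rfl⟩ := b
  obtain ⟨c, hc, he, hd⟩ := hI.psi_spec h
  exact ⟨⟨h, h.2.1⟩, c, hc, he, hI.planeHom_psi h, hd⟩

namespace IsTorus

variable {hI} {T : Subgroup hI.plane} (hT : hI.IsTorus T)
include hT

omit [Finite F] in
/-- The elements of odd order of the torus. -/
def oddPart : Subgroup hI.plane where
  carrier := {x | x ∈ T ∧ Odd (orderOf x)}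
  one_mem' := ⟨T.one_mem, by simp⟩
  mul_mem' {a b} ha hb := by
    refine ⟨T.mul_mem ha.1 hb.1, ?_⟩
    exact Odd.of_dvd_nat (ha.2.mul hb.2)
      ((Commute.orderOf_mul_dvd_lcm (TorusPair.comm hT a ha.1 b hb.1)).trans (Nat.lcm_dvd_mul _ _))
  inv_mem' {a} ha := ⟨T.inv_mem ha.1, by rw [orderOf_inv]; exact ha.2⟩

omit [Finite F] in
theorem mem_oddPart {x : hI.plane} : x ∈ hT.oddPart ↔ Odd (orderOf x) :=
  ⟨fun h => h.2, fun h => ⟨hT.mem_of_odd h, h⟩⟩

theorem odd_card_oddPart : Odd (Nat.card hT.oddPart) := by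
  haveI : Fact (Nat.Prime 2) := ⟨Nat.prime_two⟩
  rw [← Nat.not_even_iff_odd]
  intro he
  obtain ⟨x, hx⟩ := exists_prime_orderOf_dvd_card' (G := hT.oddPart) 2 (even_iff_two_dvd.mp he)
  have := hT.mem_oddPart.mp x.2
  rw [Subgroup.orderOf_coe, hx] at this
  exact absurd this (by decide)

omit [Finite F] in
theorem oddPart_normal : hT.oddPart.Normal := ⟨fun x hx g => by
  rw [hT.mem_oddPart] at hx ⊢
  rwa [show orderOf (g * x * g⁻¹) = orderOf x from
    orderOf_injective (MulAut.conj g).toMonoidHom (MulAut.conj g).injective x]⟩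

/-- The odd core of the centraliser of the involution is the odd part of the torus. -/
theorem map_oddCore :
    (Cfsg.oddCore (Subgroup.centralizer ({hI.tX} : Set (PX P)))).map
      (Subgroup.centralizer ({hI.tX} : Set (PX P))).subtype = hT.oddPart.map hI.planeHom := by
  have e : hT.oddPart.map hI.planeHom =
      (hT.oddPart.map hI.cenIso.symm.toMonoidHom).map
        (Subgroup.centralizer ({hI.tX} : Set (PX P))).subtype := by
    rw [Subgroup.map_map]
    rfl
  rw [e]
  congr 1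
  refine le_antisymm (sSup_le ?_) (le_sSup ⟨hT.oddPart_normal.map _ hI.cenIso.symm.surjective, ?_⟩)
  · rintro N ⟨-, hN⟩ x hx
    refine ⟨hI.cenIso x, ?_, hI.cenIso.symm_apply_apply x⟩
    rw [SetLike.mem_coe, hT.mem_oddPart, MulEquiv.orderOf_eq, ← Nat.coprime_two_right]
    exact Nat.Coprime.coprime_dvd_left (N.orderOf_dvd_natCard hx) hN
  · rw [Subgroup.card_map_of_injective (f := hI.cenIso.symm.toMonoidHom) hI.cenIso.symm.injective]
    exact Nat.coprime_two_right.mpr hT.odd_card_oddPart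

omit [Finite F] in
theorem plane_no_fixed [Finite F] {b : hI.plane} (hb : Odd (orderOf b)) (hb1 : b ≠ 1) :
    (((b : GL (Fin 2) F) : M2) - 1).det ≠ 0 := by
  haveI : Fact p.Prime := ⟨hI.prime⟩
  haveI := hI.char
  intro h0
  set B : M2 := ((b : GL (Fin 2) F) : M2) with hB
  have hd : B.det = 1 := hT.det_of_odd hb
  rw [Matrix.det_fin_two] at hd h0
  simp at h0
  have hsq : (B - 1) * (B - 1) = 0 := by
    ext i j
    fin_cases i <;> fin_cases j <;> simp [Matrix.mul_apply, Fin.sum_univ_two]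
    · linear_combination (B 0 0) * (hd - h0) - hd
    · linear_combination (B 0 1) * (hd - h0)
    · linear_combination (B 1 0) * (hd - h0)
    · linear_combination (B 1 1) * (hd - h0) - hd
  have hp : (B - 1) ^ p = 0 := by
    obtain ⟨k, hk⟩ : ∃ k, p = k + 2 := ⟨p - 2, by have := hI.prime.two_le; omega⟩
    rw [hk, pow_add, sq, hsq, mul_zero]
  rw [sub_pow_char_of_commute p (Commute.one_right _), one_pow, sub_eq_zero] at hp
  have hbp : b ^ p = 1 := Subtype.ext (Units.ext (by simpa using hp))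
  rcases (Nat.dvd_prime hI.prime).mp (orderOf_dvd_of_pow_eq_one hbp) with e | e
  · exact hb1 (orderOf_eq_one_iff.mp e)
  · exact hI.not_dvd_card ((dvd_of_eq e.symm).trans (orderOf_dvd_natCard b))

/-- An element of `P` commuting with the block of an odd torus element lies in the torus. -/
theorem mem_torus_of_commute {b : hI.plane} (hb : Odd (orderOf b)) (hb1 : b ≠ 1) {h : P}
    (hc : ((h : GL (Fin 3) F) : M3) * blk ((b : GL (Fin 2) F) : M2) =
      blk ((b : GL (Fin 2) F) : M2) * ((h : GL (Fin 3) F) : M3)) :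
    ∃ hh : (h : GL (Fin 3) F) ∈ cen0 P, (⟨hI.psi ⟨h, hh⟩, ⟨h, hh⟩, rfl⟩ : hI.plane) ∈ T := by
  have hne := hT.plane_no_fixed hb hb1
  set B : M2 := ((b : GL (Fin 2) F) : M2) with hB
  set H : M3 := ((h : GL (Fin 3) F) : M3) with hH
  rw [Matrix.det_fin_two] at hne
  simp at hne
  have e01 := congrFun (congrFun hc 0) 1
  have e02 := congrFun (congrFun hc 0) 2
  have e10 := congrFun (congrFun hc 1) 0
  have e20 := congrFun (congrFun hc 2) 0
  simp [blk, Matrix.mul_apply, Fin.sum_univ_three] at e01 e02 e10 e20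
  have h01 : H 0 1 = 0 := (mul_eq_zero.mp (show _ * H 0 1 = 0 by
    linear_combination (B 1 1 - 1) * e01 - (B 1 0) * e02)).resolve_left hne
  have h02 : H 0 2 = 0 := (mul_eq_zero.mp (show _ * H 0 2 = 0 by
    linear_combination (B 0 0 - 1) * e02 - (B 0 1) * e01)).resolve_left hne
  have h10 : H 1 0 = 0 := (mul_eq_zero.mp (show _ * H 1 0 = 0 by
    linear_combination -(B 1 1 - 1) * e10 + (B 0 1) * e20)).resolve_left hne
  have h20 : H 2 0 = 0 := (mul_eq_zero.mp (show _ * H 2 0 = 0 by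
    linear_combination -(B 0 0 - 1) * e20 + (B 1 0) * e10)).resolve_left hne
  have hh : (h : GL (Fin 3) F) ∈ cen0 P := ⟨h.2, Subgroup.mem_centralizer_singleton_iff.mpr (Units.ext (by
    rw [Units.val_mul, Units.val_mul, t0_val, ← hH]
    ext i j
    fin_cases i <;> fin_cases j <;> simp [Matrix.mul_diagonal, Matrix.diagonal_mul, h01, h02, h10, h20]))⟩
  refine ⟨hh, ?_⟩
  by_contra hw
  obtain ⟨c, hc0, he, -⟩ := hI.psi_spec ⟨h, hh⟩
  rw [show H = _ from he, smul_mul_assoc, mul_smul_comm, ← blk_mul, ← blk_mul] at hc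
  have hcm : (⟨hI.psi ⟨h, hh⟩, ⟨h, hh⟩, rfl⟩ : hI.plane) * b * (⟨hI.psi ⟨h, hh⟩, ⟨h, hh⟩, rfl⟩ : hI.plane)⁻¹ = b := by
    rw [mul_inv_eq_iff_eq_mul]
    exact Subtype.ext (Units.ext (smul_blk_inj hc0 hc).2)
  rw [hT.invert_of_odd hb hw] at hcm
  have h2 : orderOf b ∣ 2 := orderOf_dvd_of_pow_eq_one (by
    rw [sq]
    nth_rewrite 1 [← hcm]
    exact inv_mul_cancel b)
  rcases (Nat.dvd_prime Nat.prime_two).mp h2 with e | e
  · exact hb1 (orderOf_eq_one_iff.mp e)
  · rw [e] at hb
    exact absurd hb (by decide)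

end IsTorus

end InvSetting

end Cfsg.Agent.Linear.Mitchell
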