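import Cfsg.Agent.Linear.Mitchell.Cases.Main
import Cfsg.Agent.Linear.Mitchell.Transport
import Cfsg.Agent.Linear.Order
import Cfsg.Agent.S2202
import Cfsg.Agent.S0493
import Cfsg.Agent.S0494
import Cfsg.Agent.H2.ChiFour.CoverFive

/-!
Odd characteristic without transvections or homologies: reduction to `PSL₂` of odd degree and the
exceptional orders.
-/

set_option autoImplicit false

namespace Cfsg.Agent.Linear.Mitchell

open scoped MatrixGroups Matrix
open Cfsg.Geo Matrix

variable {F : Type*} [Field F]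

/-- A set of commuting involutions of `GL₂` has at most four elements, the identity included. -/
theorem card_le_four_of_exponent_two {ι : Type*} [Finite ι] (m : ι → GL (Fin 2) F) (hinj : Function.Injective m)
    (h2 : (2 : F) ≠ 0) (hsq : ∀ i, m i * m i = 1) (hc : ∀ i j, m i * m j = m j * m i) :
    Nat.card ι ≤ 4 := by
  classical
  have hsqm : ∀ i, ((m i : GL (Fin 2) F) : Matrix (Fin 2) (Fin 2) F) * (m i : GL (Fin 2) F) = 1 := fun i => by
    rw [← Units.val_mul, hsq i, Units.val_one]
  have hcases : ∀ c : F, c * c = 1 → c = 1 ∨ c = -1 := fun c hc' => mul_self_eq_one_iff.mp hc'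
  obtain ⟨S, hS4, hS⟩ : ∃ S : Finset (Matrix (Fin 2) (Fin 2) F), S.card ≤ 4 ∧
      ∀ i, ((m i : GL (Fin 2) F) : Matrix (Fin 2) (Fin 2) F) ∈ S := by
    by_cases hsc : ∀ i, IsScalarTwo ((m i : GL (Fin 2) F) : Matrix (Fin 2) (Fin 2) F)
    · refine ⟨{1, -1}, (Finset.card_insert_le _ _).trans (by simp), fun i => ?_⟩
      obtain ⟨c, hc'⟩ := isScalarTwo_iff.mp (hsc i)
      have h := hsqm i
      rw [hc'] at h
      have h00 := congrFun (congrFun h 0) 0
      simp at h00
      rcases hcases c h00 with rfl | rfl <;> simp [hc']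
    push Not at hsc
    obtain ⟨i₀, hi₀⟩ := hsc
    set M : Matrix (Fin 2) (Fin 2) F := ((m i₀ : GL (Fin 2) F) : Matrix (Fin 2) (Fin 2) F) with hM
    refine ⟨{1, -1, M, -M}, Finset.card_le_four, fun i => ?_⟩
    obtain ⟨a, b, hab⟩ := (mem_centralizer_GL_two hi₀).mp
      (Subgroup.mem_centralizer_singleton_iff.mpr (hc i i₀))
    have h := hsqm i
    rw [hab] at h
    have ht := trace_eq_zero_of_sq_scalar hi₀ (c := 1) (by rw [one_smul]; exact hsqm i₀)
    have hMsq : M * M = 1 := hsqm i₀
    have hexp : (a • (1 : Matrix (Fin 2) (Fin 2) F) + b • M) * (a • 1 + b • M) =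
        (a * a + b * b) • 1 + (2 * a * b) • M := by
      simp only [mul_add, add_mul, smul_mul_smul_comm, one_mul, mul_one, hMsq]
      module
    rw [hexp] at h
    have htr := congrArg Matrix.trace h
    rw [Matrix.trace_add, Matrix.trace_smul, Matrix.trace_smul, ht, smul_zero, add_zero, Matrix.trace_one,
      Fintype.card_fin, smul_eq_mul, Nat.cast_ofNat] at htr
    have hab1 : a * a + b * b = 1 := mul_right_cancel₀ h2 (by rw [one_mul]; exact htr)
    rw [hab1, one_smul, add_eq_left, smul_eq_zero] at h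
    have hab0 : a * b = 0 := by
      rcases h with h | h
      · simpa [mul_assoc, h2] using h
      · exact absurd (isScalarTwo_iff.mpr ⟨0, by rw [h, zero_smul]⟩) hi₀
    rw [hab]
    change a • (1 : Matrix (Fin 2) (Fin 2) F) + b • M ∈ _
    rcases mul_eq_zero.mp hab0 with rfl | rfl
    · rcases hcases b (by simpa using hab1) with rfl | rfl <;> simp
    · rcases hcases a (by simpa using hab1) with rfl | rfl <;> simp
  haveI := Fintype.ofFinite ι
  rw [Nat.card_eq_fintype_card, ← Finset.card_univ]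
  exact (Finset.card_le_card_of_injOn (fun i => ((m i : GL (Fin 2) F) : Matrix (Fin 2) (Fin 2) F))
    (fun i _ => hS i) fun i _ j _ e => hinj (Units.ext e)).trans hS4

variable [Finite F] {P : Subgroup (GL (Fin 3) F)}

theorem projCard_conjP (g : GL (Fin 3) F) : projCard (conjP g P) = projCard P :=
  (Nat.card_congr (pxConj (P := P) g).toEquiv).symm

/-- All involution centralisers abelian: `P` modulo scalars is `PSL₂(5)`. -/
theorem exists_psl_two_of_abelian {p : ℕ} [Fact p.Prime] [CharP F p] (hp : p ≠ 2) (hS : Setting P)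
    (hN : NoTransvection P) (hH : ∀ lam : F, HasHomology P lam → lam ^ 2 = 1)
    (hab : ∀ x : PX P, orderOf x = 2 → IsMulCommutative ↥(Subgroup.centralizer ({x} : Set (PX P)))) :
    ∃ (K : Type) (_ : Field K) (_ : Fintype K), Odd (Fintype.card K) ∧
      Nonempty (PX P ≃* Matrix.ProjectiveSpecialLinearGroup (Fin 2) K) := by
  classical
  haveI := hS.simple
  haveI : Fact (Nat.Prime 2) := ⟨Nat.prime_two⟩
  haveI : Fact (Nat.Prime 5) := ⟨by norm_num⟩
  rcases Cfsg.Agent.S2202.result hS.even_card hab with h | h | ⟨K, _, _, A, _, _, hK2, hAodd, ⟨e⟩⟩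
  · exact absurd (h default) (hS.sylow_two_not_cyclic default)
  · exfalso
    let S : Sylow 2 (PX P) := default
    rcases (h S).eq_bot_or_eq_top with h0 | h0
    · exact S.ne_bot_of_dvd_card (even_iff_two_dvd.mp hS.even_card) h0
    · have hp' : IsPGroup 2 (PX P) := fun x => by
        obtain ⟨k, hk⟩ := S.isPGroup' ⟨x, h0 ▸ Subgroup.mem_top x⟩
        exact ⟨k, congrArg Subtype.val hk⟩
      haveI := hp'.isNilpotent
      exact hS.not_comm fun a b => IsSimpleGroup.comm_iff_isSolvable.mpr inferInstance a b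
  · let π : PX P →* A := (MonoidHom.snd _ A).comp e.toMonoidHom
    haveI : Subsingleton A := by
      have hs : Function.Surjective π := fun a => ⟨e.symm (1, a), by simp [π]⟩
      rcases π.normal_ker.eq_bot_or_eq_top with h0 | h0
      · exact absurd (fun a b => (π.ker_eq_bot_iff.mp h0) (by rw [map_mul, map_mul, mul_comm]))
          hS.not_comm
      · exact ⟨fun a b => by
          obtain ⟨x, rfl⟩ := hs a; obtain ⟨y, rfl⟩ := hs b
          rw [MonoidHom.mem_ker.mp (h0 ▸ Subgroup.mem_top x : x ∈ π.ker),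
            MonoidHom.mem_ker.mp (h0 ▸ Subgroup.mem_top y : y ∈ π.ker)]⟩
    let e₁ : PX P ≃* Matrix.SpecialLinearGroup (Fin 2) K :=
      MulEquiv.ofBijective ((MonoidHom.fst _ A).comp e.toMonoidHom)
        ⟨fun x y h => e.injective (Prod.ext h (Subsingleton.elim _ _)), fun a => ⟨e.symm (a, 1), by simp⟩⟩
    let v : K → Matrix.SpecialLinearGroup (Fin 2) K := fun a => ⟨!![1, a; 0, 1], by simp [Matrix.det_fin_two]⟩
    have hv : ∀ a b, v a * v b = v (a + b) := fun a b => Subtype.ext (by
      show (!![1, a; 0, 1] : Matrix (Fin 2) (Fin 2) K) * !![1, b; 0, 1] = !![1, a + b; 0, 1]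
      ext i j; fin_cases i <;> fin_cases j <;> simp [Matrix.mul_apply, Fin.sum_univ_two, add_comm])
    have hv0 : v 0 = 1 := Subtype.ext (by ext i j; fin_cases i <;> fin_cases j <;> simp [v])
    have hvinj : Function.Injective v := fun a b h => by
      have := congrArg (fun X : Matrix.SpecialLinearGroup (Fin 2) K => (X : Matrix (Fin 2) (Fin 2) K) 0 1) h
      simpa [v] using this
    have hvsq : ∀ a, v a * v a = 1 := fun a => by rw [hv, CharTwo.add_self_eq_zero, hv0]
    set x : PX P := e₁.symm (v 1) with hx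
    have hx2 : orderOf x = 2 := orderOf_eq_prime (by rw [sq, hx, ← map_mul, hvsq, map_one])
      fun h => one_ne_zero (hvinj ((e₁.symm.map_eq_one_iff.mp h).trans hv0.symm))
    obtain ⟨g, hI, hg⟩ := exists_invSetting hp hS hN hH hx2
    have hmem : ∀ a, pxConj g (e₁.symm (v a)) ∈ Subgroup.centralizer ({hI.tX} : Set (PX (conjP g P))) := fun a => by
      rw [Subgroup.mem_centralizer_singleton_iff, ← hg, hx, ← map_mul, ← map_mul, ← map_mul, ← map_mul, hv, hv,
        add_comm]
    let m : K → GL (Fin 2) F := fun a => (hI.cenIso ⟨_, hmem a⟩ : GL (Fin 2) F)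
    have hK4 : Nat.card K ≤ 4 := by
      refine card_le_four_of_exponent_two m (fun a b h => ?_) hI.two (fun a => ?_) fun a b => ?_
      · have := hI.cenIso.injective (Subtype.ext h)
        exact hvinj (e₁.symm.injective ((pxConj g).injective (congrArg Subtype.val this)))
      · rw [← Subgroup.coe_mul, ← map_mul, show (⟨_, hmem a⟩ : Subgroup.centralizer ({hI.tX} : Set (PX (conjP g P)))) * ⟨_, hmem a⟩ = 1 from
          Subtype.ext (by show pxConj g _ * pxConj g _ = 1; rw [← map_mul, ← map_mul, hvsq, map_one, map_one]),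
          map_one, Subgroup.coe_one]
      · rw [← Subgroup.coe_mul, ← Subgroup.coe_mul, ← map_mul, ← map_mul]
        congr 2
        exact Subtype.ext (by
          show pxConj g _ * pxConj g _ = pxConj g _ * pxConj g _
          rw [← map_mul, ← map_mul, ← map_mul, ← map_mul, hv, hv, add_comm])
    have hcard : Nat.card (PX P) ≤ 100 := by
      rw [Nat.card_congr e₁.toEquiv, card_SL_two]
      rw [Nat.card_eq_fintype_card] at hK4
      have : Fintype.card K ^ 2 - 1 ≤ 15 := by have := Nat.pow_le_pow_left hK4 2; omega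
      exact (Nat.mul_le_mul hK4 this).trans (by norm_num)
    have h60 := Cfsg.Agent.S0493.result hS.not_isCyclic hcard
    obtain ⟨e5⟩ := Cfsg.Agent.S0494.result h60
    obtain ⟨e5'⟩ := Cfsg.Agent.H2.ChiFour.psl_equiv_alt
    exact ⟨ZMod 5, inferInstance, inferInstance, by rw [ZMod.card]; decide, ⟨e5.trans e5'.symm⟩⟩

/-- The possibilities in odd characteristic without transvections and homologies. -/
theorem reduce {p : ℕ} [Fact p.Prime] [CharP F p] (hp : p ≠ 2) (hS : Setting P)
    (hN : NoTransvection P) (hH : ∀ lam : F, HasHomology P lam → lam ^ 2 = 1) :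
    (∃ (K : Type) (_ : Field K) (_ : Fintype K), Odd (Fintype.card K) ∧
      Nonempty (PX P ≃* Matrix.ProjectiveSpecialLinearGroup (Fin 2) K)) ∨
    projCard P = 168 ∨ projCard P = 360 ∨
    ∃ (g : GL (Fin 3) F) (hI : InvSetting p (conjP g P)),
      ¬ 2 ∣ (Subgroup.centralizer ({hI.tX} : Set (PX (conjP g P)))).index ∧
      (((projCard P = 2520 ∨ projCard P = 3672) ∧
        Nat.card (Subgroup.centralizer ({hI.tX} : Set (PX (conjP g P)))) = 24) ∨ hI.IsOctahedral) := by
  classical
  haveI : Fact (Nat.Prime 2) := ⟨Nat.prime_two⟩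
  have hodd_of : ∀ (g : GL (Fin 3) F) (x : PX P) (S : Sylow 2 (PX P)), (∀ s ∈ (S : Subgroup (PX P)), s * x = x * s) →
      ∀ hI : InvSetting p (conjP g P), pxConj g x = hI.tX →
        ¬ 2 ∣ (Subgroup.centralizer ({hI.tX} : Set (PX (conjP g P)))).index := by
    intro g x S hS' hI hg hdvd
    let S' : Subgroup (PX (conjP g P)) := (S : Subgroup (PX P)).map (pxConj g).toMonoidHom
    have hle : S' ≤ Subgroup.centralizer ({hI.tX} : Set (PX (conjP g P))) := by
      rintro _ ⟨s, hs, rfl⟩
      rw [Subgroup.mem_centralizer_singleton_iff, ← hg]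
      show pxConj g s * pxConj g x = pxConj g x * pxConj g s
      rw [← map_mul, ← map_mul, hS' s hs]
    have h1 := hdvd.trans (Subgroup.index_dvd_of_le hle)
    rw [Subgroup.index_map_of_bijective (f := (pxConj g).toMonoidHom) (pxConj g).bijective] at h1
    exact S.not_dvd_index h1
  obtain ⟨S, t, ht, htS, htc⟩ := hS.exists_central_involution
  obtain ⟨g, hI, hg⟩ := exists_invSetting hp hS hN hH ht
  have hodd := hodd_of g t S htc hI hg
  rcases hI.cases_of_odd hodd with hab | hord | ⟨K, iK, iK', hK, ⟨e⟩⟩ | hoct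
  rotate_left
  · rw [projCard_conjP] at hord
    rcases hord with h | h | ⟨h, h24⟩
    exacts [Or.inr (Or.inl h), Or.inr (Or.inr (Or.inl h)), Or.inr (Or.inr (Or.inr ⟨g, hI, hodd, Or.inl ⟨h, h24⟩⟩))]
  · exact Or.inl ⟨K, iK, iK', hK, ⟨(pxConj g).trans e⟩⟩
  · exact Or.inr (Or.inr (Or.inr ⟨g, hI, hodd, Or.inr hoct⟩))
  -- the Sylow 2-subgroups are abelian
  have hcomm : ∀ a b : PX P, a * t = t * a → b * t = t * b → a * b = b * a := by
    intro a b ha hb
    have hm : ∀ c : PX P, c * t = t * c →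
        pxConj g c ∈ Subgroup.centralizer ({hI.tX} : Set (PX (conjP g P))) := fun c hc => by
      rw [Subgroup.mem_centralizer_singleton_iff, ← hg, ← map_mul, ← map_mul, hc]
    have := hab (hI.cenIso ⟨_, hm a ha⟩) (hI.cenIso ⟨_, hm b hb⟩)
    rw [← map_mul, ← map_mul] at this
    have := congrArg Subtype.val (hI.cenIso.injective this)
    exact (pxConj g).injective (by rw [map_mul, map_mul]; exact this)
  by_cases hall : ∀ x : PX P, orderOf x = 2 → IsMulCommutative ↥(Subgroup.centralizer ({x} : Set (PX P)))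
  · exact Or.inl (exists_psl_two_of_abelian hp hS hN hH hall)
  push Not at hall
  obtain ⟨x, hx, hxnc⟩ := hall
  obtain ⟨S', hS'⟩ := (IsPGroup.of_card (n := 1) (p := 2) (G := Subgroup.zpowers x)
    (by rw [Nat.card_zpowers, hx, pow_one])).exists_le_sylow
  obtain ⟨u, rfl⟩ := MulAction.exists_smul_eq (PX P) S S'
  have hxS : ∀ s ∈ ((u • S : Sylow 2 (PX P)) : Subgroup (PX P)), s * x = x * s := by
    intro s hs
    have key : ∀ z ∈ ((u • S : Sylow 2 (PX P)) : Subgroup (PX P)), (u⁻¹ * z * u) ∈ (S : Subgroup (PX P)) := by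
      intro z hz
      rw [Sylow.coe_subgroup_smul] at hz
      have := Subgroup.mem_pointwise_smul_iff_inv_smul_mem.mp hz
      simpa [MulAut.smul_def, MulAut.conj_apply] using this
    have h1 := hcomm _ _ (htc _ (key s hs)) (htc _ (key x (hS' (Subgroup.mem_zpowers x))))
    have h2 : u * ((u⁻¹ * s * u) * (u⁻¹ * x * u)) * u⁻¹ = u * ((u⁻¹ * x * u) * (u⁻¹ * s * u)) * u⁻¹ := by rw [h1]
    group at h2 ⊢
    exact h2
  obtain ⟨g', hI', hg'⟩ := exists_invSetting hp hS hN hH hx
  have hodd' := hodd_of g' x _ hxS hI' hg'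
  rcases hI'.cases_of_odd hodd' with hab' | hord | ⟨K, iK, iK', hK, ⟨e⟩⟩ | hoct
  rotate_left
  · rw [projCard_conjP] at hord
    rcases hord with h | h | ⟨h, h24⟩
    exacts [Or.inr (Or.inl h), Or.inr (Or.inr (Or.inl h)), Or.inr (Or.inr (Or.inr ⟨g', hI', hodd', Or.inl ⟨h, h24⟩⟩))]
  · exact Or.inl ⟨K, iK, iK', hK, ⟨(pxConj g').trans e⟩⟩
  · exact Or.inr (Or.inr (Or.inr ⟨g', hI', hodd', Or.inr hoct⟩))
  refine absurd ⟨⟨fun a b => Subtype.ext ?_⟩⟩ hxnc
  have hm : ∀ c : PX P, c ∈ Subgroup.centralizer ({x} : Set (PX P)) →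
      pxConj g' c ∈ Subgroup.centralizer ({hI'.tX} : Set (PX (conjP g' P))) := fun c hc => by
    rw [Subgroup.mem_centralizer_singleton_iff] at hc ⊢
    rw [← hg', ← map_mul, ← map_mul, hc]
  have := hab' (hI'.cenIso ⟨_, hm a a.2⟩) (hI'.cenIso ⟨_, hm b b.2⟩)
  rw [← map_mul, ← map_mul] at this
  have := congrArg Subtype.val (hI'.cenIso.injective this)
  exact (pxConj g').injective (by rw [Subgroup.coe_mul, Subgroup.coe_mul, map_mul, map_mul]; exact this)

end Cfsg.Agent.Linear.Mitchell
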