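import Cfsg.Agent.Linear.Mitchell.Cases.IndexTwo
import Cfsg.Agent.Linear.Mitchell.Centraliser.Recognise

/-!
Dihedral plane groups: the torus, the signs, and the Sylow 2-subgroups.
-/

set_option autoImplicit false

namespace Cfsg.Agent.Linear.Mitchell

open scoped MatrixGroups Matrix
open Cfsg.Geo Matrix

variable {F : Type*} [Field F] {P : Subgroup (GL (Fin 3) F)}

local notation "M2" => Matrix (Fin 2) (Fin 2) F

namespace InvSetting

variable {p : ℕ} (hI : InvSetting p P)
include hI

/-- `-1` in the plane group. -/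
noncomputable def nn : hI.plane := ⟨-1, hI.neg_one_mem⟩

theorem nn_val : ((hI.nn : hI.plane) : GL (Fin 2) F) = -1 := rfl

theorem nn_ne_one : hI.nn ≠ 1 := fun h => hI.neg_one_ne_one (congrArg Subtype.val h)

theorem nn_mul_self : hI.nn * hI.nn = 1 := Subtype.ext (by simp [nn_val])

theorem nn_comm (g : hI.plane) : hI.nn * g = g * hI.nn := Subtype.ext (by simp [nn_val])

theorem orderOf_nn : orderOf hI.nn = 2 := by
  haveI : Fact (Nat.Prime 2) := ⟨Nat.prime_two⟩
  exact orderOf_eq_prime (by rw [sq, hI.nn_mul_self]) hI.nn_ne_one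

/-- The subgroup `±1` of the plane group. -/
noncomputable def signs : Subgroup hI.plane := Subgroup.zpowers hI.nn

theorem mem_signs {x : hI.plane} : x ∈ hI.signs ↔ x = 1 ∨ x = hI.nn := by
  constructor
  · rintro ⟨k, rfl⟩
    show hI.nn ^ k = 1 ∨ hI.nn ^ k = hI.nn
    rw [← zpow_mod_orderOf, hI.orderOf_nn]
    rcases Int.emod_two_eq k with h | h <;> push_cast <;> rw [h]
    · exact Or.inl (_root_.zpow_zero _)
    · exact Or.inr (_root_.zpow_one _)
  · rintro (rfl | rfl)
    · exact one_mem _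
    · exact Subgroup.mem_zpowers _

/-- The plane pair: torus of index two over the signs. -/
def IsTorus (T : Subgroup hI.plane) : Prop := TorusPair T hI.signs

variable {Q : Type} [Group Q] {f : hI.plane →* Q}

theorem isTorus_comap (hs : Function.Surjective f)
    (hf : ∀ M : hI.plane, f M = 1 ↔ (M : GL (Fin 2) F) = 1 ∨ (M : GL (Fin 2) F) = -1)
    {A : Subgroup Q} (hA : IsCyclic A) (hidx : A.index = 2)
    (hout : ∀ w, w ∉ A → w * w = 1 ∧ ∀ y ∈ A, w * y * w⁻¹ = y⁻¹) : hI.IsTorus (A.comap f) := by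
  have hker : ∀ x, f x = 1 ↔ x ∈ hI.signs := fun x => by
    rw [hf, hI.mem_signs]
    exact or_congr ⟨fun h => Subtype.ext h, fun h => congrArg Subtype.val h⟩
      ⟨fun h => Subtype.ext h, fun h => congrArg Subtype.val h⟩
  have hcen : ∀ s ∈ hI.signs, ∀ g : hI.plane, s * g = g * s := by
    intro s hs' g
    rcases hI.mem_signs.mp hs' with rfl | rfl
    · simp
    · exact hI.nn_comm g
  refine ⟨by rw [A.index_comap_of_surjective hs, hidx], ?_, ?_, hcen, ?_, ?_, ?_⟩
  · intro a ha b hb
    let g : A.comap f →* A := MonoidHom.mk' (fun x => ⟨f x, x.2⟩) fun x y => Subtype.ext (map_mul f x.1 y.1)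
    haveI := hA
    have := commutative_of_cyclic_center_quotient g (fun x hx => ?_) ⟨a, ha⟩ ⟨b, hb⟩
    · exact congrArg Subtype.val this
    · rw [Subgroup.mem_center_iff]
      intro y
      have h1 : (x : hI.plane) ∈ hI.signs := (hker _).mp (congrArg Subtype.val (MonoidHom.mem_ker.mp hx))
      exact Subtype.ext (hcen _ h1 y).symm
  · intro s hs'
    rw [Subgroup.mem_comap, (hker s).mpr hs']
    exact A.one_mem
  · intro s hs'
    rcases hI.mem_signs.mp hs' with rfl | rfl
    · simp
    · exact hI.nn_mul_self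
  · intro w hw x hx
    rw [← hker, map_mul, map_mul, map_mul, map_inv, (hout _ hw).2 _ hx, inv_mul_cancel]
  · intro w hw
    rw [← hker, map_mul, (hout _ hw).1]

namespace IsTorus

variable {hI} {T : Subgroup hI.plane} (hT : hI.IsTorus T)
include hT

theorem sq_cases {w : hI.plane} (hw : w ∉ T) : w * w = 1 ∨ w * w = hI.nn :=
  hI.mem_signs.mp (TorusPair.outside_sq hT w hw)

theorem pow_four {w : hI.plane} (hw : w ∉ T) : w ^ 4 = 1 := by
  rw [show (4 : ℕ) = 2 * 2 from rfl, pow_mul, sq w, sq]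
  exact TorusPair.sq hT _ (TorusPair.outside_sq hT w hw)

theorem mem_of_odd {x : hI.plane} (hx : Odd (orderOf x)) : x ∈ T := by
  by_contra h
  have hd := Nat.dvd_gcd dvd_rfl (orderOf_dvd_of_pow_eq_one (hT.pow_four h))
  rw [(Nat.Coprime.pow_right 2 (Nat.coprime_two_right.mpr hx) : Nat.Coprime (orderOf x) (2 ^ 2)), Nat.dvd_one,
    orderOf_eq_one_iff] at hd
  exact h (hd ▸ T.one_mem)

theorem nn_mem : hI.nn ∈ T := TorusPair.le hT (hI.mem_signs.mpr (Or.inr rfl))

theorem exists_not_mem : ∃ w, w ∉ T := by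
  by_contra h
  push Not at h
  have := TorusPair.idx hT
  rw [(Subgroup.eq_top_iff' T).mpr h, Subgroup.index_top] at this
  exact absurd this (by norm_num)

/-- Odd-order elements of the torus are inverted by the elements outside and have determinant one. -/
theorem invert_of_odd {x w : hI.plane} (hx : Odd (orderOf x)) (hw : w ∉ T) : w * x * w⁻¹ = x⁻¹ := by
  have hxT := hT.mem_of_odd hx
  obtain ⟨ε, hS, hε, -⟩ := TorusPair.exists_eps hT hw
  have h1 : orderOf (ε x) ∣ orderOf x := orderOf_map_dvd ε x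
  have h2 : orderOf (ε x) ∣ 2 := orderOf_dvd_of_pow_eq_one (by rw [sq]; exact TorusPair.sq hT _ (hS x))
  have h := Nat.dvd_gcd h1 h2
  rw [(Nat.coprime_two_right.mpr hx : Nat.Coprime (orderOf x) 2), Nat.dvd_one, orderOf_eq_one_iff,
    hε x hxT] at h
  exact eq_inv_of_mul_eq_one_left h

theorem det_of_odd {x : hI.plane} (hx : Odd (orderOf x)) : ((x : GL (Fin 2) F) : M2).det = 1 := by
  obtain ⟨w, hw⟩ := hT.exists_not_mem
  let d : hI.plane →* Fˣ := Matrix.GeneralLinearGroup.det.comp hI.plane.subtype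
  have h := congrArg d (hT.invert_of_odd hx hw)
  rw [map_mul, map_mul, map_inv, map_inv, mul_comm (d w), mul_inv_cancel_right] at h
  have h2 : orderOf (d x) ∣ 2 := orderOf_dvd_of_pow_eq_one (by
    rw [sq]
    nth_rewrite 2 [h]
    exact mul_inv_cancel _)
  have hd := Nat.dvd_gcd (orderOf_map_dvd d x) h2
  rw [(Nat.coprime_two_right.mpr hx : Nat.Coprime (orderOf x) 2), Nat.dvd_one, orderOf_eq_one_iff] at hd
  exact congrArg Units.val hd

end IsTorus

end InvSetting

end Cfsg.Agent.Linear.Mitchell
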